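import Cfsg.Agent.H85.Ore.EEight
import Cfsg.Agent.H85.Pw.ZetaN
import Cfsg.Agent.H78.Pw.Base

/-!
# `E_8(q)`, `E_7(q)`: products of two elements of prescribed order, one block of type `A_7`, `A_6` (S2465)

* `pairs_of_blk` : every element is `a b` with `a^N = b^N = 1`, `N ∣ q^m - 1`, `(q^m - 1)/(q - 1) < N`;
* `own_E8`, `own_E7` : products of two elements of order prime to the characteristic `r ≥ 5` (any `q ≥ 3`);
* `six_E8`, `six_E7` : order prime to `6`, if `q - 1` has a (large) divisor prime to `6`.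
-/

set_option autoImplicit false
set_option linter.unusedSectionVars false

namespace Cfsg.Agent.H85.Pw

open CoxeterSystem Cfsg.Agent.ChevalleyStructure.CoxeterGeom Cfsg.Agent.Tits.Roots Cfsg.Agent.Tits.Core
  Cfsg.Agent.Nodes.Reps Cfsg.Agent.Nodes.BNOf Cfsg.Agent.Nodes.RGDLib Cfsg.Agent.Nodes.Bruhat
  Cfsg.Agent.Nodes.OppDec Cfsg.Agent.Nodes.LeviDec Cfsg.Agent.Nodes.KindChev Cfsg.Agent.Nodes.ChevCls
  Cfsg.Agent.OddHalf.NI.ModelChev
  Cfsg.Agent.H162.GaussDec Cfsg.Agent.H162.GaussLevi Cfsg.Agent.H162.GaussSL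
  Cfsg.Agent.H162.GaussMain Cfsg.Agent.H162.GaussPQ Cfsg.Agent.H162.GaussExc
open Cfsg.Lie Cfsg.Agent.ChevalleyStructure Cfsg.Agent.ChevalleyStructure.Elts
  Cfsg.Agent.ChevalleyStructure.RootVec Cfsg.Agent.ChevalleyStructure.NPerm
  Cfsg.Agent.ChevalleyStructure.CoxeterGeomTypes Cfsg.Agent.Nodes.RGDChev Cfsg.Agent.KFacts.RgdChevCoord
open Cfsg.Agent.H928.Ore.Frame (NF LP)
open Cfsg.Agent.H224.Ore.Zeta (Zet)
open Cfsg.Agent.H85.Ore Cfsg.Agent.H78.Pw
open Polynomial (X C)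

universe u

theorem conj_pow' {ι L : Type*} [Fintype ι] [DecidableEq ι] [Field L] (g : GL ι L) (d : Matrix ι ι L) (N : ℕ) :
    ((g : Matrix ι ι L) * d * ((g⁻¹ : GL ι L) : Matrix ι ι L)) ^ N =
      (g : Matrix ι ι L) * d ^ N * ((g⁻¹ : GL ι L) : Matrix ι ι L) := by
  have h1 : ((g⁻¹ : GL ι L) : Matrix ι ι L) * (g : Matrix ι ι L) = 1 := by
    rw [← Units.val_mul, inv_mul_cancel]; rfl
  have h2 : (g : Matrix ι ι L) * ((g⁻¹ : GL ι L) : Matrix ι ι L) = 1 := by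
    rw [← Units.val_mul, mul_inv_cancel]; rfl
  induction N with
  | zero => rw [pow_zero, pow_zero, mul_one, h2]
  | succ N ih =>
    rw [pow_succ, ih, pow_succ]
    calc (g : Matrix ι ι L) * d ^ N * ((g⁻¹ : GL ι L) : Matrix ι ι L) *
          ((g : Matrix ι ι L) * d * ((g⁻¹ : GL ι L) : Matrix ι ι L))
        = (g : Matrix ι ι L) * d ^ N * (((g⁻¹ : GL ι L) : Matrix ι ι L) * (g : Matrix ι ι L)) * d *
            ((g⁻¹ : GL ι L) : Matrix ι ι L) := by simp only [mul_assoc]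
      _ = _ := by rw [h1, mul_one]; simp only [mul_assoc]

theorem pow_eq_one {K K' : Type*} [Field K] [Field K'] {i : K →+* K'} {m : ℕ} {c : Matrix.SpecialLinearGroup (Fin m) K}
    {lam : Fin m → K'} (hinj : Function.Injective lam) (hc : c.1.charpoly.map i = ∏ a, (X - C (lam a))) {N : ℕ}
    (hN : ∀ a, lam a ^ N = 1) : c ^ N = 1 := by
  obtain ⟨g, hg⟩ := Cfsg.Agent.H934.MF.diag_map i c.1 hinj hc
  have h1 : (c ^ N : Matrix.SpecialLinearGroup (Fin m) K).1 = c.1 ^ N := Matrix.SpecialLinearGroup.coe_pow c N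
  have h2 : (c.1 ^ N).map i = (c.1.map i) ^ N := map_pow i.mapMatrix c.1 N
  have h3 : lam ^ N = fun _ => (1 : K') := by funext a; exact hN a
  have h4 : Matrix.diagonal (fun _ : Fin m => (1 : K')) = 1 := Matrix.diagonal_one
  have h5 : (c.1 ^ N).map i = 1 := by
    rw [h2, hg, conj_pow', Matrix.diagonal_pow, h3, h4, mul_one, ← Units.val_mul, mul_inv_cancel]
    rfl
  have h6 : (1 : Matrix (Fin m) (Fin m) K).map i = 1 := Matrix.map_one _ (map_zero i) (map_one i)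
  have h7 : c.1 ^ N = 1 := Matrix.map_injective i.injective (h5.trans h6.symm)
  exact Subtype.ext (h1.trans h7)

section

variable {D : ChevalleyDatum} {l : ℕ} {M : CoxeterMatrix (Fin l)} (hp : IsType D l M) {K : Type u} [Field K] [Finite K]
  (hq : 3 ≤ Nat.card K) {J : List (Fin l)} {n : ℕ} {r : Fin (n + 2) → Fin (n + 2) → ℕ} {j : Fin (n + 1) → Fin l}

include hq in
/-- **The class of the block, with the order.** -/
theorem exists_classN (hn : 1 ≤ n) {N : ℕ} (hN : N ∣ Nat.card K ^ (n + 1) - 1)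
    (hlt : ∑ a ∈ Finset.range (n + 1), Nat.card K ^ a < N) (hW : ChkW D l J n j)
    (hphi' : ∀ (F : Type) [Field F], ∃ φ : Matrix.SpecialLinearGroup (Fin (n + 2)) F →* ↥(D.group F),
      ∀ a b (hab : a ≠ b) c, φ (Matrix.SpecialLinearGroup.transvection hab c) =
        xc hp (vec D l (r a b)) (((-1 : ℤ) : F) * c))
    (hr : ∀ a b, a ≠ b → r a b < D.nroots) (hrJ : ∀ a b, a ≠ b → ∀ k, k ∉ J → vec D l (r a b) k = 0)
    (hneg : ∀ a b, a ≠ b → r b a = D.neg (r a b)) (hj : ∀ a : Fin (n + 1), r a.castSucc a.succ = D.simple (j a))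
    {φ : Matrix.SpecialLinearGroup (Fin (n + 2)) K →* ↥(D.group K)}
    (hφ : ∀ a b (hab : a ≠ b) c, φ (Matrix.SpecialLinearGroup.transvection hab c) =
      xc hp (vec D l (r a b)) (((-1 : ℤ) : K) * c)) :
    ∃ c₀ : Matrix.SpecialLinearGroup (Fin (n + 2)) K, c₀ ^ N = 1 ∧ OneClass hp K J φ c₀ := by
  obtain ⟨K', iF, iK, i, ν, p, lam, Z, hZ⟩ := exists_zetN K (m := n + 1) (by omega) hN hlt
  obtain ⟨c₀, h1, h2, h3⟩ := Cfsg.Agent.H150.MF.mf_poly hq (n := n + 2) (by omega) Z.monic Z.deg Z.c0 Z.nu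
  have key : ∀ g : Matrix.SpecialLinearGroup (Fin (n + 2)) K,
      NF (VJ M.toCoxeterSystem hp.isCartan (XX D l K) {k | k ∈ J}) (φ (g * c₀ * g⁻¹)) ∧
        NF (VNJ M.toCoxeterSystem hp.isCartan (XX D l K) {k | k ∈ J}) (φ (g * c₀ * g⁻¹)) := by
    intro x
    obtain ⟨g, hg⟩ := Cfsg.Agent.H934.MF.diag_map i (x * c₀ * x⁻¹).1 Z.inj (by rw [charpoly_conj, h1]; exact Z.split)
    obtain ⟨φ', hφ'⟩ := hphi' K'
    obtain ⟨ch, hch⟩ := CharP.exists K'
    have := Fintype.ofFinite K'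
    have : Fact ch.Prime := ⟨(CharP.char_is_prime_or_zero K' ch).resolve_right (CharP.char_ne_zero_of_finite K' ch)⟩
    have B : Cfsg.Agent.H482.Ore.Fix.Bk hp i {k | k ∈ J} n r j φ φ' (fun _ _ => ((-1 : ℤ) : K)) :=
      { simp := ⟨hj, fun a => by rw [← hj a]; exact hneg _ _ (cs_ne a)⟩
        rlt := hr
        rJ := hrJ
        hφ := hφ
        hφ' := fun a b hab c => by rw [hφ' a b hab c, map_intCast]
        ss := fun a => by simp }
    exact Cfsg.Agent.H482.Ore.Fix.nf_block' hp ch B (g := g) hg fun q hq hk => ne_one' Z hW hq hk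
  exact ⟨c₀, pow_eq_one Z.inj (by rw [h1]; exact Z.split) hZ, h3, fun g => (key g).1, fun g => (key g).2⟩

end

section

variable {D : ChevalleyDatum} {l : ℕ} {M : CoxeterMatrix (Fin l)} (hp : IsType D l M) {K : Type u} [Field K] [Finite K]
  (hl : 0 < l) (hG : IsSimpleGroup ↥(D.group K) ∧ ¬ IsMulCommutative ↥(D.group K))
  (hM : ∀ J : Finset (Fin l), J = ∅ ∨ J = Finset.univ ∨ ∃ a ∈ J, ∃ b, b ∉ J ∧ M a b ≠ 2)
  {J : List (Fin l)} {e : Fin l → ℤ} {ω : List (Fin l)} {n : ℕ} {r : Fin (n + 2) → Fin (n + 2) → ℕ}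
  (TB : TabB D l J e ω n r)
  {φ : Matrix.SpecialLinearGroup (Fin (n + 2)) K →* ↥(D.group K)} {s : Fin (n + 2) → Fin (n + 2) → K}
  (hs : ∀ a b, s a b ≠ 0)
  (hφ : ∀ a b (hab : a ≠ b) c, φ (Matrix.SpecialLinearGroup.transvection hab c) = xc hp (vec D l (r a b)) (s a b * c))
  {c₀ : Matrix.SpecialLinearGroup (Fin (n + 2)) K} (hc : OneClass hp K J φ c₀)

include hl hG hM TB hs hφ hc in
/-- **Every element is a product of two elements from the class of the block.** -/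
theorem pairs_of_blk {N : ℕ} (hN : c₀ ^ N = 1) (g : ↥(D.group K)) : ∃ a b : ↥(D.group K), g = a * b ∧ a ^ N = 1 ∧ b ^ N = 1 := by
  obtain ⟨p, hpc⟩ := CharP.exists K
  have := Fintype.ofFinite K
  have : Fact p.Prime := ⟨(CharP.char_is_prime_or_zero K p).resolve_right (CharP.char_ne_zero_of_finite K p)⟩
  have := finite_W hp M.toCoxeterSystem
  have : Nonempty (Fin l) := ⟨⟨0, hl⟩⟩
  by_cases hg : g ∈ (RGD.B M.toCoxeterSystem hp.isCartan (TT D K) (XX D l K)).normalCore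
  · rw [one_of_core hp hl hG.1 hg]
    exact ⟨1, 1, by simp, one_pow _, one_pow _⟩
  · obtain ⟨c₁, c₂, x, y, ⟨h1, h2⟩, h3⟩ := Cfsg.Agent.H928.Ore.Frame.pair (rgd (K := K) hp M.toCoxeterSystem p)
      (G1_eq_top hp _) (coord hp) (Cfsg.Agent.Nodes.ChevChart.irr_of hM) (J := {k | k ∈ J})
      (Pr := fun c₁ c₂ : ↥(D.group K) => c₁ ^ N = 1 ∧ c₂ ^ N = 1) (fun v hv w hw => by
        obtain ⟨x, y, h1, h2⟩ := levi_pairs hp TB hs hφ hc hv hw
        refine ⟨_, _, h1, h2, ?_, ?_⟩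
        · rw [← map_pow, conj_pow, hN, mul_one, mul_inv_cancel, map_one]
        · rw [← map_pow, conj_pow, inv_pow, hN, inv_one, mul_one, mul_inv_cancel, map_one]) hg
    exact ⟨_, _, h3, by rw [conj_pow, h1, mul_one, mul_inv_cancel], by rw [conj_pow, h2, mul_one, mul_inv_cancel]⟩

end

theorem all_of_pairs {G : Type*} [Group G] {N n : ℕ} (hn : N.Coprime n)
    (h : ∀ g : G, ∃ a b : G, g = a * b ∧ a ^ N = 1 ∧ b ^ N = 1) : All n G := by
  intro g
  obtain ⟨a, b, h1, h2, h3⟩ := h g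
  exact ⟨a, b, h1, Nat.Coprime.of_dvd_left (orderOf_dvd_of_pow_eq_one h2) hn,
    Nat.Coprime.of_dvd_left (orderOf_dvd_of_pow_eq_one h3) hn⟩

section

variable (K : Type u) [Field K] [Finite K] (hq : 3 ≤ Nat.card K)

include hq in
theorem pairs_E8 {N : ℕ} (hN : N ∣ Nat.card K ^ 7 - 1) (hlt : ∑ a ∈ Finset.range 7, Nat.card K ^ a < N) :
    ∀ g : ↥(chevE8.group K), ∃ a b : ↥(chevE8.group K), g = a * b ∧ a ^ N = 1 ∧ b ^ N = 1 := by
  obtain ⟨φ, hφ⟩ := exists_phi8 K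
  obtain ⟨c₀, hc0, hc⟩ := exists_classN (n := 6) (j := j8) Cfsg.Agent.Nodes.KindE.isType8 hq (by norm_num) hN hlt chkW8
    (fun F _ => exists_phi8 F) ch8a.1 ch8a.2 rt8.2.2.2 r8_simple hφ
  exact pairs_of_blk Cfsg.Agent.Nodes.KindE.isType8 (by norm_num) (Cfsg.Agent.S1054.result chevE8 (by simp))
    Cfsg.Agent.Nodes.ChevChart.irr8 tab8 (s := fun _ _ => ((-1 : ℤ) : K)) (fun _ _ => by simp) hφ hc hc0

include hq in
theorem pairs_E7 {N : ℕ} (hN : N ∣ Nat.card K ^ 6 - 1) (hlt : ∑ a ∈ Finset.range 6, Nat.card K ^ a < N) :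
    ∀ g : ↥(chevE7.group K), ∃ a b : ↥(chevE7.group K), g = a * b ∧ a ^ N = 1 ∧ b ^ N = 1 := by
  obtain ⟨φ, hφ⟩ := exists_phi7 K
  obtain ⟨c₀, hc0, hc⟩ := exists_classN (n := 5) (j := j7) Cfsg.Agent.Nodes.KindE.isType7 hq (by norm_num) hN hlt chkW7
    (fun F _ => exists_phi7 F) ch7a.1 ch7a.2 rt7.2.2.2 r7_simple hφ
  exact pairs_of_blk Cfsg.Agent.Nodes.KindE.isType7 (by norm_num) (Cfsg.Agent.S1054.result chevE7 (by simp))
    Cfsg.Agent.Nodes.ChevChart.irr7 tab7 (s := fun _ _ => ((-1 : ℤ) : K)) (fun _ _ => by simp) hφ hc hc0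

/-- `q^m - 1` is prime to the characteristic -/
theorem coprime_card {p : ℕ} [Fact p.Prime] [CharP K p] {m : ℕ} (hm : m ≠ 0) : (Nat.card K ^ m - 1).Coprime p := by
  have := Fintype.ofFinite K
  obtain ⟨n, hp, hn⟩ := FiniteField.card K p
  have h1 : p ∣ Nat.card K ^ m := by
    rw [Nat.card_eq_fintype_card, hn, ← pow_mul]
    exact dvd_pow_self p (mul_ne_zero n.ne_zero hm)
  have h2 : 1 ≤ Nat.card K ^ m := Nat.one_le_pow _ _ Nat.card_pos
  rw [Nat.coprime_comm, Nat.Prime.coprime_iff_not_dvd hp]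
  intro h3
  have h4 := (Nat.dvd_sub h1 h3)
  rw [Nat.sub_sub_self h2] at h4
  exact hp.one_lt.ne' (Nat.dvd_one.1 h4)

theorem sum_lt {q : ℕ} (hq : 3 ≤ q) {m : ℕ} (hm : 1 ≤ m) : ∑ a ∈ Finset.range m, q ^ a < q ^ m - 1 := by
  have := Cfsg.Agent.H224.Ore.Zeta.sum_pow_lt hq hm Finset.univ
  rwa [Fin.sum_univ_eq_sum_range (fun a => q ^ a) m] at this

include hq in
/-- **own characteristic** -/
theorem own_E8 (p : ℕ) [Fact p.Prime] [CharP K p] : All p ↥(chevE8.group K) :=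
  all_of_pairs (coprime_card K (by norm_num)) (pairs_E8 K hq (dvd_refl _) (sum_lt hq (by norm_num)))

include hq in
/-- **own characteristic** -/
theorem own_E7 (p : ℕ) [Fact p.Prime] [CharP K p] : All p ↥(chevE7.group K) :=
  all_of_pairs (coprime_card K (by norm_num)) (pairs_E7 K hq (dvd_refl _) (sum_lt hq (by norm_num)))

end

end Cfsg.Agent.H85.Pw
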