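import Cfsg.Agent.H85.Pw.EBlk

/-!
# `E_8(q)`, `E_7(q)`, `q` a power of `2` or `3`: products of two elements of order prime to `6` (S2465)

* `six_E8` : `q ≠ 2, 3, 4, 9`;  `six_E7` : `q ≠ 2, 3, 4, 8, 9`.
-/

set_option autoImplicit false

namespace Cfsg.Agent.H85.Pw

open Cfsg.Lie Cfsg.Agent.H78.Pw

universe u

/-! ### Arithmetic -/

theorem geom_mul (q m : ℕ) (hq : 1 ≤ q) : (q - 1) * ∑ a ∈ Finset.range m, q ^ a = q ^ m - 1 := by
  induction m with
  | zero => simp
  | succ m ih =>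
    rw [Finset.sum_range_succ, mul_add, ih, pow_succ]
    have h1 : 1 ≤ q ^ m := Nat.one_le_pow _ _ hq
    obtain ⟨k, rfl⟩ : ∃ k, q = k + 1 := ⟨q - 1, by omega⟩
    rw [Nat.add_sub_cancel]
    have h2 : 1 ≤ (k + 1) ^ m := h1
    have h3 : (k + 1) ^ m * (k + 1) = k * (k + 1) ^ m + (k + 1) ^ m := by ring
    omega

theorem coprime_six {n : ℕ} (h2 : n % 2 = 1) (h3 : n % 3 ≠ 0) : n.Coprime 6 := by
  have e : (6 : ℕ) = 2 * 3 := by norm_num
  rw [e]
  refine Nat.Coprime.mul_right ?_ ?_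
  · rw [Nat.coprime_comm, Nat.Prime.coprime_iff_not_dvd Nat.prime_two]
    omega
  · rw [Nat.coprime_comm, Nat.Prime.coprime_iff_not_dvd Nat.prime_three]
    omega

theorem sum7_coprime (q : ℕ) : (∑ a ∈ Finset.range 7, q ^ a).Coprime 6 := by
  have h : ∀ k : ℕ, (∑ a ∈ Finset.range 7, q ^ a) % k = (∑ a ∈ Finset.range 7, (q % k) ^ a) % k := by
    intro k
    rw [Finset.sum_nat_mod, Finset.sum_nat_mod (s := Finset.range 7) (f := fun a => (q % k) ^ a)]
    congr 1
    refine Finset.sum_congr rfl fun a _ => ?_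
    exact (Nat.pow_mod q a k)
  refine coprime_six ?_ ?_
  · rw [h 2]
    have : q % 2 < 2 := Nat.mod_lt _ (by norm_num)
    interval_cases q % 2 <;> decide
  · rw [h 3]
    have : q % 3 < 3 := Nat.mod_lt _ (by norm_num)
    interval_cases q % 3 <;> decide

/-- powers of two with `q - 1` a power of three -/
theorem two_three {a j : ℕ} (h : 2 ^ a = 3 ^ j + 1) : a ≤ 2 := by
  by_contra ha
  push Not at ha
  have h1 : 8 ∣ 3 ^ j + 1 := by
    rw [← h]
    exact (pow_dvd_pow 2 ha : 2 ^ 3 ∣ 2 ^ a)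
  have h2 : 3 ^ j % 8 = 1 ∨ 3 ^ j % 8 = 3 := by
    clear h h1
    induction j with
    | zero => left; rfl
    | succ j ih => rw [pow_succ]; omega
  omega

/-- powers of three with `q - 1` a power of two -/
theorem three_two {a i : ℕ} (h : 3 ^ a = 2 ^ i + 1) : a ≤ 2 := by
  by_contra ha
  push Not at ha
  have h0 : 27 ≤ 3 ^ a := by
    calc 27 = 3 ^ 3 := by norm_num
      _ ≤ 3 ^ a := Nat.pow_le_pow_right (by norm_num) ha
  have hi : 4 ≤ i := by
    by_contra hi
    push Not at hi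
    have : 2 ^ i ≤ 2 ^ 3 := Nat.pow_le_pow_right (by norm_num) (by omega)
    omega
  have h1 : 16 ∣ 2 ^ i := (pow_dvd_pow 2 hi : 2 ^ 4 ∣ 2 ^ i)
  have h2 : ∀ a : ℕ, (3 ^ a % 80 = 1 ∨ 3 ^ a % 80 = 3 ∨ 3 ^ a % 80 = 9 ∨ 3 ^ a % 80 = 27) := by
    intro a
    induction a with
    | zero => left; rfl
    | succ j ih => rw [pow_succ]; omega
  have h3 : 3 ^ a % 80 = 1 := by
    have := h2 a
    omega
  have h4 : 5 ∣ 2 ^ i := by omega
  have h5 := Nat.Prime.dvd_of_dvd_pow Nat.prime_five h4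
  omega

/-- a divisor prime to `6` -/
theorem exists_c {q a : ℕ} (h : q = 2 ^ a ∨ q = 3 ^ a) (ha : a ≠ 0) (h2 : q ≠ 2) (h3 : q ≠ 3) (h4 : q ≠ 4) (h9 : q ≠ 9) :
    ∃ c, 1 < c ∧ c ∣ q - 1 ∧ c.Coprime 6 := by
  have hq : 2 ≤ q := by
    rcases h with h | h
    · rw [h]
      calc 2 = 2 ^ 1 := by norm_num
        _ ≤ 2 ^ a := Nat.pow_le_pow_right (by norm_num) (by omega)
    · rw [h]
      calc 2 ≤ 3 ^ 1 := by norm_num
        _ ≤ 3 ^ a := Nat.pow_le_pow_right (by norm_num) (by omega)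
  rcases h with h | h
  · -- the part prime to 3
    have hn : q - 1 ≠ 0 := by omega
    have hodd : (q - 1) % 2 = 1 := by
      have : q % 2 = 0 := by
        rw [h]
        obtain ⟨b, rfl⟩ := Nat.exists_eq_succ_of_ne_zero ha
        rw [pow_succ]
        omega
      omega
    refine ⟨ordCompl[3] (q - 1), ?_, Nat.ordCompl_dvd _ _, ?_⟩
    · have h5 : 0 < ordCompl[3] (q - 1) := Nat.ordCompl_pos 3 hn
      by_contra hc
      have h6 : ordCompl[3] (q - 1) = 1 := by omega
      have h7 := Nat.ordProj_mul_ordCompl_eq_self (q - 1) 3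
      rw [h6, mul_one] at h7
      have h8 := two_three (a := a) (j := (q - 1).factorization 3) (by rw [h7, ← h]; omega)
      interval_cases a <;> simp_all
    · refine coprime_six ?_ ?_
      · have h5 := Nat.ordProj_mul_ordCompl_eq_self (q - 1) 3
        by_contra h6
        have h7 : ordCompl[3] (q - 1) % 2 = 0 := by omega
        have h8 : 2 ∣ q - 1 := by
          rw [← h5]
          exact Dvd.dvd.mul_left (Nat.dvd_of_mod_eq_zero h7) _
        omega
      · intro h5
        exact Nat.not_dvd_ordCompl Nat.prime_three hn (Nat.dvd_of_mod_eq_zero h5)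
  · have hn : q - 1 ≠ 0 := by omega
    have hthree : (q - 1) % 3 = 2 := by
      have : q % 3 = 0 := by
        rw [h]
        obtain ⟨b, rfl⟩ := Nat.exists_eq_succ_of_ne_zero ha
        rw [pow_succ]
        omega
      omega
    refine ⟨ordCompl[2] (q - 1), ?_, Nat.ordCompl_dvd _ _, ?_⟩
    · have h5 : 0 < ordCompl[2] (q - 1) := Nat.ordCompl_pos 2 hn
      by_contra hc
      have h6 : ordCompl[2] (q - 1) = 1 := by omega
      have h7 := Nat.ordProj_mul_ordCompl_eq_self (q - 1) 2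
      rw [h6, mul_one] at h7
      have h8 := three_two (a := a) (i := (q - 1).factorization 2) (by rw [h7, ← h]; omega)
      interval_cases a <;> simp_all
    · refine coprime_six ?_ ?_
      · have h5 := Nat.not_dvd_ordCompl Nat.prime_two hn
        omega
      · intro h5
        have h7 := Nat.ordProj_mul_ordCompl_eq_self (q - 1) 2
        have h8 : 3 ∣ q - 1 := by
          rw [← h7]
          exact Dvd.dvd.mul_left (Nat.dvd_of_mod_eq_zero h5) _
        omega

/-! ### `E_8` -/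

/-- `E_8(q)`, given a divisor of `q - 1` prime to `6` -/
theorem six_E8_of (K : Type u) [Field K] [Finite K] {c : ℕ} (h1 : 1 < c) (hc : c ∣ Nat.card K - 1) (h6 : c.Coprime 6) :
    All 6 ↥(chevE8.group K) := by
  have hq2 : 2 ≤ Nat.card K := Finite.one_lt_card
  have hq : 3 ≤ Nat.card K := by
    have := Nat.le_of_dvd (by omega) hc
    omega
  have hpos : 0 < ∑ a ∈ Finset.range 7, Nat.card K ^ a :=
    Finset.sum_pos (fun a _ => pow_pos (by omega) a) ⟨0, by simp⟩
  refine all_of_pairs (N := c * ∑ a ∈ Finset.range 7, Nat.card K ^ a) (Nat.Coprime.mul_left h6 (sum7_coprime _))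
    (pairs_E8 K hq ?_ ?_)
  · rw [← geom_mul _ 7 (by omega)]
    exact Nat.mul_dvd_mul hc (dvd_refl _)
  · calc ∑ a ∈ Finset.range 7, Nat.card K ^ a = 1 * ∑ a ∈ Finset.range 7, Nat.card K ^ a := (one_mul _).symm
      _ < c * ∑ a ∈ Finset.range 7, Nat.card K ^ a := Nat.mul_lt_mul_of_pos_right h1 hpos

theorem card_pow (K : Type u) [Field K] [Finite K] (p : ℕ) [CharP K p] : ∃ a, a ≠ 0 ∧ Nat.card K = p ^ a := by
  have := Fintype.ofFinite K
  obtain ⟨n, hp, hn⟩ := FiniteField.card K p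
  exact ⟨n, n.ne_zero, by rw [Nat.card_eq_fintype_card, hn]⟩

/-- **`E_8(q)`, `q` a power of `2` or `3`, `q ≠ 2, 3, 4, 9`.** -/
theorem six_E8 (K : Type u) [Field K] [Finite K] (hch : CharP K 2 ∨ CharP K 3) (h2 : Nat.card K ≠ 2)
    (h3 : Nat.card K ≠ 3) (h4 : Nat.card K ≠ 4) (h9 : Nat.card K ≠ 9) : All 6 ↥(chevE8.group K) := by
  have h : ∃ a, a ≠ 0 ∧ (Nat.card K = 2 ^ a ∨ Nat.card K = 3 ^ a) := by
    rcases hch with h | h
    · obtain ⟨a, ha, e⟩ := card_pow K 2
      exact ⟨a, ha, Or.inl e⟩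
    · obtain ⟨a, ha, e⟩ := card_pow K 3
      exact ⟨a, ha, Or.inr e⟩
  obtain ⟨a, ha, h⟩ := h
  obtain ⟨c, h5, h6, h7⟩ := exists_c h ha h2 h3 h4 h9
  exact six_E8_of K h5 h6 h7

/-! ### `E_7` -/

theorem three_pow_le (n : ℕ) : 1 ≤ n → ∀ v, 3 ^ v ∣ 4 ^ n - 1 → 3 ^ v ≤ 3 * n := by
  induction n using Nat.strong_induction_on with
  | _ n ih =>
    intro hn v hv
    by_cases h3 : n % 3 = 0
    · obtain ⟨m, rfl⟩ : ∃ m, n = 3 * m := ⟨n / 3, by omega⟩
      rcases v with _ | w
      · omega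
      · have hx : 1 ≤ 4 ^ m := Nat.one_le_pow _ _ (by norm_num)
        have h4 : 4 ^ m % 9 = 1 ∨ 4 ^ m % 9 = 4 ∨ 4 ^ m % 9 = 7 := by
          clear ih hn hv h3 hx
          induction m with
          | zero => left; rfl
          | succ j ih => rw [pow_succ]; omega
        obtain ⟨x, hxe⟩ : ∃ x, x = 4 ^ m := ⟨_, rfl⟩
        have h5 : 4 ^ (3 * m) - 1 = (x - 1) * (x * x + x + 1) := by
          rw [mul_comm 3 m, pow_mul, ← hxe]
          rw [← hxe] at hx
          obtain ⟨y, rfl⟩ : ∃ y, x = y + 1 := ⟨x - 1, by omega⟩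
          rw [Nat.add_sub_cancel]
          have : (y + 1) ^ 3 = y * ((y + 1) * (y + 1) + (y + 1) + 1) + 1 := by ring
          omega
        rw [← hxe] at h4
        have h6 : ∃ k, x * x + x + 1 = 3 * k ∧ k % 3 ≠ 0 := by
          have h7 : (x * x + x + 1) % 9 = 3 := by
            have h8 : (x * x) % 9 = (x % 9) * (x % 9) % 9 := Nat.mul_mod x x 9
            rcases h4 with h | h | h <;> rw [h] at h8 <;> omega
          exact ⟨(x * x + x + 1) / 3, by omega, by omega⟩
        obtain ⟨k, hk, hk3⟩ := h6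
        rw [h5, hk, pow_succ, mul_comm (3 ^ w) 3, mul_left_comm] at hv
        have h8 : 3 ^ w ∣ (x - 1) * k := Nat.dvd_of_mul_dvd_mul_left (by norm_num) hv
        have h9 : (3 ^ w).Coprime k := by
          refine Nat.Coprime.pow_left w ?_
          rw [Nat.Prime.coprime_iff_not_dvd Nat.prime_three]
          omega
        have h10 : 3 ^ w ∣ 4 ^ m - 1 := by
          rw [← hxe]
          exact h9.dvd_of_dvd_mul_right h8
        have h11 := ih m (by omega) (by omega) w h10
        rw [pow_succ]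
        omega
    · have h5 := geom_mul 4 n (by norm_num)
      have h6 : (∑ a ∈ Finset.range n, 4 ^ a) % 3 = n % 3 := by
        clear ih hn hv h3 h5
        induction n with
        | zero => rfl
        | succ j ih =>
          rw [Finset.sum_range_succ]
          have : 4 ^ j % 3 = 1 := by
            clear ih
            induction j with
            | zero => rfl
            | succ i ih => rw [pow_succ]; omega
          omega
      rw [← h5] at hv
      have h7 : (3 ^ v).Coprime (∑ a ∈ Finset.range n, 4 ^ a) := by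
        refine Nat.Coprime.pow_left v ?_
        rw [Nat.Prime.coprime_iff_not_dvd Nat.prime_three]
        omega
      have h8 : 3 ^ v ∣ 3 := h7.dvd_of_dvd_mul_right hv
      have := Nat.le_of_dvd (by norm_num) h8
      omega

theorem two_pow_le (n : ℕ) : 1 ≤ n → ∀ v, 2 ^ v ∣ 9 ^ n - 1 → 2 ^ v ≤ 8 * n := by
  induction n using Nat.strong_induction_on with
  | _ n ih =>
    intro hn v hv
    by_cases h3 : n % 2 = 0
    · obtain ⟨m, rfl⟩ : ∃ m, n = 2 * m := ⟨n / 2, by omega⟩
      rcases v with _ | w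
      · omega
      · have hx : 1 ≤ 9 ^ m := Nat.one_le_pow _ _ (by norm_num)
        have h4 : 9 ^ m % 4 = 1 := by
          clear ih hn hv h3 hx
          induction m with
          | zero => rfl
          | succ j ih => rw [pow_succ]; omega
        obtain ⟨x, hxe⟩ : ∃ x, x = 9 ^ m := ⟨_, rfl⟩
        have h5 : 9 ^ (2 * m) - 1 = (x - 1) * (x + 1) := by
          rw [mul_comm 2 m, pow_mul, ← hxe]
          rw [← hxe] at hx
          obtain ⟨y, rfl⟩ : ∃ y, x = y + 1 := ⟨x - 1, by omega⟩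
          rw [Nat.add_sub_cancel]
          have : (y + 1) ^ 2 = y * ((y + 1) + 1) + 1 := by ring
          omega
        rw [← hxe] at h4
        obtain ⟨k, hk, hk2⟩ : ∃ k, x + 1 = 2 * k ∧ k % 2 ≠ 0 := ⟨(x + 1) / 2, by omega, by omega⟩
        rw [h5, hk, pow_succ, mul_comm (2 ^ w) 2, mul_left_comm] at hv
        have h8 : 2 ^ w ∣ (x - 1) * k := Nat.dvd_of_mul_dvd_mul_left (by norm_num) hv
        have h9 : (2 ^ w).Coprime k := by
          refine Nat.Coprime.pow_left w ?_
          rw [Nat.Prime.coprime_iff_not_dvd Nat.prime_two]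
          omega
        have h10 : 2 ^ w ∣ 9 ^ m - 1 := by
          rw [← hxe]
          exact h9.dvd_of_dvd_mul_right h8
        have h11 := ih m (by omega) (by omega) w h10
        rw [pow_succ]
        omega
    · have h5 := geom_mul 9 n (by norm_num)
      have h6 : (∑ a ∈ Finset.range n, 9 ^ a) % 2 = n % 2 := by
        clear ih hn hv h3 h5
        induction n with
        | zero => rfl
        | succ j ih =>
          rw [Finset.sum_range_succ]
          have : 9 ^ j % 2 = 1 := by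
            clear ih
            induction j with
            | zero => rfl
            | succ i ih => rw [pow_succ]; omega
          omega
      rw [← h5] at hv
      have h7 : (2 ^ v).Coprime (∑ a ∈ Finset.range n, 9 ^ a) := by
        refine Nat.Coprime.pow_left v ?_
        rw [Nat.Prime.coprime_iff_not_dvd Nat.prime_two]
        omega
      have h8 : 2 ^ v ∣ 8 := h7.dvd_of_dvd_mul_right hv
      have := Nat.le_of_dvd (by norm_num) h8
      omega

theorem lt_two_pow {a : ℕ} (ha : 6 ≤ a) : 9 * a + 1 < 2 ^ a := by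
  induction a, ha using Nat.le_induction with
  | base => norm_num
  | succ k hk ih => rw [pow_succ]; omega

theorem lt_three_pow {a : ℕ} (ha : 5 ≤ a) : 24 * a + 1 < 3 ^ a := by
  induction a, ha using Nat.le_induction with
  | base => norm_num
  | succ k hk ih => rw [pow_succ]; omega

/-- the order of the class -/
theorem exists_N {q a : ℕ} (h : q = 2 ^ a ∧ 4 ≤ a ∨ q = 3 ^ a ∧ 3 ≤ a) :
    ∃ N, N ∣ q ^ 6 - 1 ∧ ∑ a ∈ Finset.range 6, q ^ a < N ∧ N.Coprime 6 := by
  have key : ∀ B N : ℕ, 2 ≤ q → B * N = q ^ 6 - 1 → B < q - 1 → ∑ a ∈ Finset.range 6, q ^ a < N := by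
    intro B N hq2 hBN hB
    have h1 := geom_mul q 6 (by omega)
    by_contra h2
    push Not at h2
    have h3 : 0 < q ^ 6 - 1 := by
      have : 2 ^ 6 ≤ q ^ 6 := Nat.pow_le_pow_left hq2 6
      omega
    have h4 : 0 < N := Nat.pos_of_ne_zero fun h => by rw [h, mul_zero] at hBN; omega
    have h5 : B * N < (q - 1) * ∑ a ∈ Finset.range 6, q ^ a :=
      lt_of_lt_of_le (Nat.mul_lt_mul_of_pos_right hB h4) (Nat.mul_le_mul_left _ h2)
    omega
  rcases h with ⟨h, ha⟩ | ⟨h, ha⟩
  · have hq : 16 ≤ q := by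
      rw [h]
      calc 16 = 2 ^ 4 := by norm_num
        _ ≤ 2 ^ a := Nat.pow_le_pow_right (by norm_num) ha
    have hq0 : q % 2 = 0 := by
      rw [h]
      obtain ⟨b, rfl⟩ := Nat.exists_eq_add_of_le ha
      rw [pow_add]
      omega
    have hn : q ^ 6 - 1 ≠ 0 := by
      have : 16 ^ 6 ≤ q ^ 6 := Nat.pow_le_pow_left hq 6
      omega
    have hodd : (q ^ 6 - 1) % 2 = 1 := by
      have : q ^ 6 % 2 = 0 := by rw [Nat.pow_mod, hq0]
      omega
    have h0 := Nat.ordProj_mul_ordCompl_eq_self (q ^ 6 - 1) 3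
    refine ⟨ordCompl[3] (q ^ 6 - 1), Nat.ordCompl_dvd _ _, key _ _ (by omega) h0 ?_, ?_⟩
    · rcases Nat.lt_or_ge a 6 with h6 | h6
      · have hle : ∀ v, 3 ^ v ∣ q ^ 6 - 1 → v ≤ 2 := by
          intro v hv
          by_contra hc
          push Not at hc
          have h7 : 3 ^ 3 ∣ q ^ 6 - 1 := (pow_dvd_pow 3 hc).trans hv
          rw [h] at h7
          interval_cases a
          · revert h7; decide +kernel
          · revert h7; decide +kernel
        have h7 := hle _ (Nat.ordProj_dvd (q ^ 6 - 1) 3)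
        calc ordProj[3] (q ^ 6 - 1) ≤ 3 ^ 2 := Nat.pow_le_pow_right (by norm_num) h7
          _ < q - 1 := by omega
      · have e1 : q ^ 6 - 1 = 4 ^ (3 * a) - 1 := by
          rw [h, ← pow_mul, show (4 : ℕ) = 2 ^ 2 by norm_num, ← pow_mul]
          congr 2
          ring
        have h7 : ordProj[3] (q ^ 6 - 1) ≤ 3 * (3 * a) :=
          three_pow_le (3 * a) (by omega) _ (by rw [← e1]; exact Nat.ordProj_dvd (q ^ 6 - 1) 3)
        have h8 : 9 * a + 1 < q := h ▸ lt_two_pow h6
        calc ordProj[3] (q ^ 6 - 1) ≤ 3 * (3 * a) := h7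
          _ < q - 1 := by omega
    · refine coprime_six ?_ ?_
      · by_contra h6
        have h7 : ordCompl[3] (q ^ 6 - 1) % 2 = 0 := by omega
        have h8 : 2 ∣ q ^ 6 - 1 := by
          rw [← h0]
          exact Dvd.dvd.mul_left (Nat.dvd_of_mod_eq_zero h7) _
        omega
      · intro h5
        exact Nat.not_dvd_ordCompl Nat.prime_three hn (Nat.dvd_of_mod_eq_zero h5)
  · have hq : 27 ≤ q := by
      rw [h]
      calc 27 = 3 ^ 3 := by norm_num
        _ ≤ 3 ^ a := Nat.pow_le_pow_right (by norm_num) ha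
    have hq0 : q % 3 = 0 := by
      rw [h]
      obtain ⟨b, rfl⟩ := Nat.exists_eq_add_of_le ha
      rw [pow_add]
      omega
    have hn : q ^ 6 - 1 ≠ 0 := by
      have : 27 ^ 6 ≤ q ^ 6 := Nat.pow_le_pow_left hq 6
      omega
    have hthree : (q ^ 6 - 1) % 3 = 2 := by
      have : q ^ 6 % 3 = 0 := by rw [Nat.pow_mod, hq0]
      have : 27 ^ 6 ≤ q ^ 6 := Nat.pow_le_pow_left hq 6
      omega
    have h0 := Nat.ordProj_mul_ordCompl_eq_self (q ^ 6 - 1) 2
    refine ⟨ordCompl[2] (q ^ 6 - 1), Nat.ordCompl_dvd _ _, key _ _ (by omega) h0 ?_, ?_⟩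
    · rcases Nat.lt_or_ge a 5 with h6 | h6
      · interval_cases a
        · have hle : ∀ v, 2 ^ v ∣ q ^ 6 - 1 → v ≤ 3 := by
            intro v hv
            by_contra hc
            push Not at hc
            have h7 : 2 ^ 4 ∣ q ^ 6 - 1 := (pow_dvd_pow 2 hc).trans hv
            rw [h] at h7
            revert h7; decide +kernel
          have h7 := hle _ (Nat.ordProj_dvd (q ^ 6 - 1) 2)
          calc ordProj[2] (q ^ 6 - 1) ≤ 2 ^ 3 := Nat.pow_le_pow_right (by norm_num) h7
            _ < q - 1 := by omega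
        · have hle : ∀ v, 2 ^ v ∣ q ^ 6 - 1 → v ≤ 5 := by
            intro v hv
            by_contra hc
            push Not at hc
            have h7 : 2 ^ 6 ∣ q ^ 6 - 1 := (pow_dvd_pow 2 hc).trans hv
            rw [h] at h7
            revert h7; decide +kernel
          have h7 := hle _ (Nat.ordProj_dvd (q ^ 6 - 1) 2)
          calc ordProj[2] (q ^ 6 - 1) ≤ 2 ^ 5 := Nat.pow_le_pow_right (by norm_num) h7
            _ < q - 1 := by rw [h]; norm_num
      · have e1 : q ^ 6 - 1 = 9 ^ (3 * a) - 1 := by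
          rw [h, ← pow_mul, show (9 : ℕ) = 3 ^ 2 by norm_num, ← pow_mul]
          congr 2
          ring
        have h7 : ordProj[2] (q ^ 6 - 1) ≤ 8 * (3 * a) :=
          two_pow_le (3 * a) (by omega) _ (by rw [← e1]; exact Nat.ordProj_dvd (q ^ 6 - 1) 2)
        have h8 : 24 * a + 1 < q := h ▸ lt_three_pow h6
        calc ordProj[2] (q ^ 6 - 1) ≤ 8 * (3 * a) := h7
          _ < q - 1 := by omega
    · refine coprime_six ?_ ?_
      · have h5 := Nat.not_dvd_ordCompl Nat.prime_two hn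
        omega
      · intro h5
        have h8 : 3 ∣ q ^ 6 - 1 := by
          rw [← h0]
          exact Dvd.dvd.mul_left (Nat.dvd_of_mod_eq_zero h5) _
        omega

/-- **`E_7(q)`, `q` a power of `2` or `3`, `q ≠ 2, 3, 4, 8, 9`.** -/
theorem six_E7 (K : Type u) [Field K] [Finite K] (hch : CharP K 2 ∨ CharP K 3) (h2 : Nat.card K ≠ 2)
    (h3 : Nat.card K ≠ 3) (h4 : Nat.card K ≠ 4) (h8 : Nat.card K ≠ 8) (h9 : Nat.card K ≠ 9) :
    All 6 ↥(chevE7.group K) := by
  have h : ∃ a, Nat.card K = 2 ^ a ∧ 4 ≤ a ∨ Nat.card K = 3 ^ a ∧ 3 ≤ a := by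
    rcases hch with h | h
    · obtain ⟨a, ha, e⟩ := card_pow K 2
      refine ⟨a, Or.inl ⟨e, ?_⟩⟩
      by_contra hc
      push Not at hc
      interval_cases a <;> simp_all
    · obtain ⟨a, ha, e⟩ := card_pow K 3
      refine ⟨a, Or.inr ⟨e, ?_⟩⟩
      by_contra hc
      push Not at hc
      interval_cases a <;> simp_all
  obtain ⟨a, h⟩ := h
  obtain ⟨N, h5, h6, h7⟩ := exists_N h
  have hq : 3 ≤ Nat.card K := by
    have : 2 ≤ Nat.card K := Finite.one_lt_card
    omega
  exact all_of_pairs h7 (pairs_E7 K hq h5 h6)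

end Cfsg.Agent.H85.Pw
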