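import Cfsg.Agent.H85.Pw.Ef
import Cfsg.Agent.H194.Pw.Own
import Cfsg.Agent.H962.PP.Psl

/-!
# Products of two elements of `SL_3(q)` with prescribed eigenvalues (S2465)

* `ev_irr` : elements with irreducible characteristic polynomial, `lam ^ (q ^ 2 - 1) ≠ 1`;
* `p_irr` : `L * U`, orders dividing `q² + q + 1`;
* `p_nu` : `L * U`, characteristic polynomial `(X - ν) p`, `lam ^ (q + 1) ≠ 1`.
-/

set_option autoImplicit false
set_option linter.unusedSectionVars false

namespace Cfsg.Agent.H85.Pw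

open Cfsg.Agent.H162.GaussSL
open Polynomial

universe u

/-! ### Inverses -/

theorem gdg {K' : Type} [Field K'] {m : ℕ} (g : GL (Fin m) K') (D D' : Matrix (Fin m) (Fin m) K') (h : D * D' = 1) :
    ((g : Matrix (Fin m) (Fin m) K') * D * ((g⁻¹ : GL (Fin m) K') : Matrix (Fin m) (Fin m) K')) *
      ((g : Matrix (Fin m) (Fin m) K') * D' * ((g⁻¹ : GL (Fin m) K') : Matrix (Fin m) (Fin m) K')) = 1 := by
  have e1 : ((g⁻¹ : GL (Fin m) K') : Matrix (Fin m) (Fin m) K') * (g : Matrix (Fin m) (Fin m) K') = 1 := by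
    rw [← Units.val_mul, inv_mul_cancel]; rfl
  have e2 : (g : Matrix (Fin m) (Fin m) K') * ((g⁻¹ : GL (Fin m) K') : Matrix (Fin m) (Fin m) K') = 1 := by
    rw [← Units.val_mul, mul_inv_cancel]; rfl
  calc (g : Matrix (Fin m) (Fin m) K') * D * ((g⁻¹ : GL (Fin m) K') : Matrix (Fin m) (Fin m) K') *
          ((g : Matrix (Fin m) (Fin m) K') * D' * ((g⁻¹ : GL (Fin m) K') : Matrix (Fin m) (Fin m) K'))
        = (g : Matrix (Fin m) (Fin m) K') * (D *
            (((g⁻¹ : GL (Fin m) K') : Matrix (Fin m) (Fin m) K') * (g : Matrix (Fin m) (Fin m) K')) *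
            D') * ((g⁻¹ : GL (Fin m) K') : Matrix (Fin m) (Fin m) K') := by
          simp only [mul_assoc]
      _ = 1 := by
          rw [e1, mul_one, h, mul_one, e2]

theorem chg {K' : Type} [Field K'] {m : ℕ} (g : GL (Fin m) K') (D : Matrix (Fin m) (Fin m) K') :
    ((g : Matrix (Fin m) (Fin m) K') * D * ((g⁻¹ : GL (Fin m) K') : Matrix (Fin m) (Fin m) K')).charpoly = D.charpoly := by
  rw [Matrix.coe_units_inv]
  exact Matrix.charpoly_units_conj g D

theorem ev_inv {K : Type u} {K' : Type} [Field K] [Field K'] {i : K →+* K'} {m : ℕ} {E : (Fin m → K') → Prop}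
    (hE : ∀ lam, E lam → (∀ a, lam a ≠ 0) ∧ E fun a => (lam a)⁻¹) {x : Matrix.SpecialLinearGroup (Fin m) K}
    (hx : Ev i E x) : Ev i E x⁻¹ := by
  obtain ⟨lam, h1, h2, h3⟩ := hx
  obtain ⟨h0, h4⟩ := hE lam h1
  refine ⟨fun a => (lam a)⁻¹, h4, fun a b hab => h2 (inv_injective hab), ?_⟩
  obtain ⟨g, hg⟩ := Cfsg.Agent.H934.MF.diag_map i x.1 h2 h3
  have e3 : (x⁻¹ : Matrix.SpecialLinearGroup (Fin m) K).1.map i * x.1.map i = 1 := by
    have h5 : ((x⁻¹ * x : Matrix.SpecialLinearGroup (Fin m) K)).1.map i =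
        (x⁻¹ : Matrix.SpecialLinearGroup (Fin m) K).1.map i * x.1.map i :=
      map_mul i.mapMatrix (x⁻¹ : Matrix.SpecialLinearGroup (Fin m) K).1 x.1
    rw [← h5, inv_mul_cancel]
    exact map_one i.mapMatrix
  have e6 : Matrix.diagonal lam * Matrix.diagonal (fun a => (lam a)⁻¹) = 1 := by
    rw [Matrix.diagonal_mul_diagonal]
    have h6 : (fun a => lam a * (lam a)⁻¹) = fun _ : Fin m => (1 : K') := by
      funext a
      exact mul_inv_cancel₀ (h0 a)
    rw [h6, Matrix.diagonal_one]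
  have e4 := gdg g _ _ e6
  rw [← hg] at e4
  have e5 : (x⁻¹ : Matrix.SpecialLinearGroup (Fin m) K).1.map i = (g : Matrix (Fin m) (Fin m) K') *
      Matrix.diagonal (fun a => (lam a)⁻¹) * ((g⁻¹ : GL (Fin m) K') : Matrix (Fin m) (Fin m) K') := by
    rw [← mul_one ((x⁻¹ : Matrix.SpecialLinearGroup (Fin m) K).1.map i), ← e4, ← mul_assoc, e3, one_mul]
  rw [← Matrix.charpoly_map, e5, chg, Matrix.charpoly_diagonal]

theorem E₁_inv {m n k : ℕ} {K' : Type} [Field K'] {lam : Fin k → K'} (h : E₁ m n lam) :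
    (∀ a, lam a ≠ 0) ∧ E₁ m n fun a => (lam a)⁻¹ := by
  refine ⟨ne_zero_of_prod h.1, ?_, fun a => ?_, fun a => ?_⟩
  · rw [Finset.prod_inv_distrib, h.1, inv_one]
  · have h1 : orderOf (lam a)⁻¹ = orderOf (lam a) := by
      have h0 := ne_zero_of_prod h.1 a
      have h2 : orderOf (lam a) = orderOf (Units.mk0 (lam a) h0) := by rw [← orderOf_units, Units.val_mk0]
      have h3 : orderOf (lam a)⁻¹ = orderOf (Units.mk0 (lam a) h0)⁻¹ := by
        rw [← orderOf_units, Units.val_inv_eq_inv_val, Units.val_mk0]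
      rw [h3, orderOf_inv, h2]
    rw [h1]
    exact h.2.1 a
  · rw [inv_pow, ne_eq, inv_eq_one]
    exact h.2.2 a

/-! ### Irreducible characteristic polynomials -/

section

variable {K : Type u} [Field K] [Finite K] {K' : Type} [Field K'] [Finite K'] [Algebra K K'] {d : ℕ}

theorem ev_irr (hK' : Nat.card K' = Nat.card K ^ d) {k e n : ℕ} (hk : k ∣ d) (he : ¬ k ∣ e)
    {x : Matrix.SpecialLinearGroup (Fin k) K} (hx : Irreducible x.1.charpoly) (hn : (orderOf x).Coprime n) :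
    Ev (algebraMap K K') (E₁ (Nat.card K ^ e - 1) n) x := by
  have hd : x.1.charpoly.natDegree = k := by rw [Matrix.charpoly_natDegree_eq_dim, Fintype.card_fin]
  refine ev_of_dvd hK' (irr_dvd hx (by rw [hd]; exact hk)) fun lam h1 h2 h3 => ⟨h1, fun a => ?_, fun a h4 => ?_⟩
  · exact Nat.Coprime.of_dvd_left (orderOf_dvd_of_pow_eq_one (root_pow (pow_orderOf_eq_one x) (h3 a))) hn
  · refine irr_ne hx (by rw [hd]; exact he) (h3 a) ?_
    have h5 : Nat.card K ^ e = Nat.card K ^ e - 1 + 1 := by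
      have : 0 < Nat.card K ^ e := pow_pos Nat.card_pos e
      omega
    rw [h5, pow_succ, h4, one_mul]

/-- `L * U`, orders dividing `q² + q + 1` -/
theorem p_irr (hK' : Nat.card K' = Nat.card K ^ d) (hd : 3 ∣ d) (hq : 4 ≤ Nat.card K) {n : ℕ}
    (hn : (1 + Nat.card K + Nat.card K ^ 2).Coprime n) :
    ∀ L ∈ LT 3 K, ∀ U ∈ UT 3 K, ∃ x y : Matrix.SpecialLinearGroup (Fin 3) K, L * U = x * y ∧
      Ev (algebraMap K K') (E₁ (Nat.card K ^ 2 - 1) n) x ∧ Ev (algebraMap K K') (E₁ (Nat.card K ^ 2 - 1) n) y := by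
  intro L hL U hU
  obtain ⟨x, y, h1, h2, h3, -⟩ := Cfsg.Agent.H126.M3.m3_lu hq L U hL hU
  have key : ∀ z : Matrix.SpecialLinearGroup (Fin 3) K, Irreducible (z : Matrix (Fin 3) (Fin 3) K).charpoly →
      (orderOf z).Coprime n := by
    intro z hz
    have h4 := Cfsg.Agent.H194.Pw.irr_pow hz
    rw [Finset.sum_range_succ, Finset.sum_range_succ, Finset.sum_range_one, pow_zero, pow_one] at h4
    exact Nat.Coprime.of_dvd_left (orderOf_dvd_of_pow_eq_one h4) hn
  exact ⟨x, y, h1, ev_irr hK' hd (by norm_num) h2 (key x h2), ev_irr hK' hd (by norm_num) h3 (key y h3)⟩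

/-! ### `(X - ν) p` -/

theorem norm_quad {p : K[X]} (hp : Irreducible p) (hm : p.Monic) (hd : p.natDegree = 2) {z : K'}
    (hz : (p.map (algebraMap K K')).IsRoot z) : z ^ (Nat.card K + 1) = algebraMap K K' (p.coeff 0) := by
  have := Fintype.ofFinite K
  have e : p = X ^ 2 + C (p.coeff 1) * X + C (p.coeff 0) := by
    have h5 := hm.as_sum
    rw [hd, Finset.sum_range_succ, Finset.sum_range_one] at h5
    nth_rw 1 [h5]
    simp
    ring
  have h1 : z ^ (Nat.card K ^ 1) ≠ z := irr_ne hp (by rw [hd]; norm_num) hz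
  rw [pow_one] at h1
  have h2 : aeval z p = 0 := by rwa [IsRoot.def, eval_map_algebraMap] at hz
  have h3 := Cfsg.Agent.H934.MF.root_pow h2 1
  rw [pow_one, ← Nat.card_eq_fintype_card] at h3
  rw [e] at h2 h3
  simp only [map_add, map_mul, map_pow, aeval_X, aeval_C] at h2 h3
  have h4 : (z ^ Nat.card K - z) * (z ^ Nat.card K + z + algebraMap K K' (p.coeff 1)) = 0 := by
    linear_combination h3 - h2
  have h5 := (mul_eq_zero.1 h4).resolve_left (sub_ne_zero.2 h1)
  rw [pow_succ]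
  linear_combination z * h5 - h2

theorem ev_nu (hK' : Nat.card K' = Nat.card K ^ d) (hd : 2 ∣ d) {n : ℕ} {ν : K} (hν : ν ^ 2 ≠ 1)
    (hn : (Nat.card K + 1).Coprime n) (hνn : (orderOf ν).Coprime n) {p : K[X]} (hp : Irreducible p) (hm : p.Monic)
    (hpd : p.natDegree = 2) (hp0 : p.coeff 0 = ν⁻¹) {x : Matrix.SpecialLinearGroup (Fin 3) K}
    (hx : x.1.charpoly = (X - C ν) * p) : Ev (algebraMap K K') (E₁ (Nat.card K + 1) n) x := by
  have := Fintype.ofFinite K
  have hq : ν ^ (Nat.card K + 1) = ν ^ 2 := by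
    rw [pow_succ, Nat.card_eq_fintype_card, FiniteField.pow_card, pow_two]
  have hdvd : (X - C ν) * p ∣ X ^ Nat.card K ^ d - X := by
    refine IsCoprime.mul_dvd ?_ (dvd_lin ν d) (irr_dvd hp (by rw [hpd]; exact hd))
    refine (((irreducible_X_sub_C ν).coprime_iff_not_dvd).2 fun h => ?_)
    obtain ⟨c, hc⟩ := h
    rcases hp.isUnit_or_isUnit hc with h1 | h1
    · exact (irreducible_X_sub_C ν).not_isUnit h1
    · have h2 : p.natDegree = (X - C ν).natDegree + c.natDegree := by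
        nth_rw 1 [hc]
        exact natDegree_mul (X_sub_C_ne_zero ν) h1.ne_zero
      rw [hpd, natDegree_X_sub_C, natDegree_eq_zero_of_isUnit h1] at h2
      omega
  refine ev_of_dvd hK' (by rw [hx]; exact hdvd) fun lam h1 h2 h3 => ?_
  have key : ∀ a, (lam a = algebraMap K K' ν) ∨ lam a ^ (Nat.card K + 1) = algebraMap K K' ν⁻¹ := by
    intro a
    have h4 := h3 a
    rw [hx, Polynomial.map_mul, IsRoot.def, eval_mul, mul_eq_zero] at h4
    rcases h4 with h4 | h4
    · left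
      rw [Polynomial.map_sub, Polynomial.map_X, Polynomial.map_C, eval_sub, eval_X, eval_C, sub_eq_zero] at h4
      exact h4
    · right
      rw [norm_quad hp hm hpd h4, hp0]
  have hν1 : ν⁻¹ ≠ 1 := by
    intro h
    rw [inv_eq_one] at h
    exact hν (by rw [h, one_pow])
  refine ⟨h1, fun a => ?_, fun a h4 => ?_⟩
  · rcases key a with h4 | h4
    · rw [h4]
      refine Nat.Coprime.of_dvd_left (orderOf_dvd_of_pow_eq_one ?_) hνn
      rw [← map_pow, pow_orderOf_eq_one, map_one]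
    · refine Nat.Coprime.of_dvd_left (orderOf_dvd_of_pow_eq_one (n := (Nat.card K + 1) * orderOf ν) ?_)
        (Nat.Coprime.mul_left hn hνn)
      rw [pow_mul, h4, ← map_pow, inv_pow, pow_orderOf_eq_one, inv_one, map_one]
  · rcases key a with h5 | h5
    · rw [h5, ← map_pow, hq] at h4
      exact hν ((algebraMap K K').injective (by rw [h4, map_one]))
    · rw [h5] at h4
      exact hν1 ((algebraMap K K').injective (by rw [h4, map_one]))

/-- factors with prescribed characteristic polynomials -/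
theorem exists_nu {ν : K} (hν0 : ν ≠ 0) {p : K[X]} (hm : p.Monic) (hpd : p.natDegree = 2) (hp0 : p.coeff 0 = ν⁻¹)
    {A : Matrix.SpecialLinearGroup (Fin 3) K} (hA : ∀ c : K, A.1 ≠ Matrix.scalar (Fin 3) c) :
    ∃ x y : Matrix.SpecialLinearGroup (Fin 3) K, A = x * y ∧ x.1.charpoly = (X - C ν) * p ∧
      y.1.charpoly = (X - C ν) * p := by
  obtain ⟨x, y, h1, h2, -, c, -, h3⟩ := Cfsg.Agent.H962.PP.exists_mul (k := 1) A.1 (by rw [A.2]; exact one_ne_zero) hA
    (p := (X - C ν) * p) (f := p) ((monic_X_sub_C ν).mul hm)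
    (by rw [(monic_X_sub_C ν).natDegree_mul hm, natDegree_X_sub_C, hpd])
    (by
      rw [mul_coeff_zero, coeff_sub, coeff_X_zero, coeff_C_zero, zero_sub, hp0]
      exact mul_ne_zero (neg_ne_zero.2 hν0) (inv_ne_zero hν0)) hm hpd (by rw [hp0]; exact inv_ne_zero hν0)
  have hx : x.det = 1 := by
    rw [Matrix.det_eq_sign_charpoly_coeff, h2, mul_coeff_zero, coeff_sub, coeff_X_zero, coeff_C_zero, zero_sub, hp0,
      Fintype.card_fin]
    field_simp
    norm_num
  have hy : y.det = 1 := by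
    have h4 := A.2
    rwa [h1, Matrix.det_mul, hx, one_mul] at h4
  have hc : c = ν := by
    rw [Matrix.det_eq_sign_charpoly_coeff, h3, mul_coeff_zero, coeff_sub, coeff_X_zero, coeff_C_zero, zero_sub, hp0,
      Fintype.card_fin] at hy
    field_simp at hy
    linear_combination hy
  refine ⟨⟨x, hx⟩, ⟨y, hy⟩, Subtype.ext h1, h2, ?_⟩
  rw [← hc]
  exact hc ▸ h3

/-- `L * U` is one or not scalar -/
theorem lu_scalar {K : Type u} [Field K] {L U : Matrix.SpecialLinearGroup (Fin 3) K} (hL : L ∈ LT 3 K) (hU : U ∈ UT 3 K)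
    (h : L * U ≠ 1) (c : K) : (L * U).1 ≠ Matrix.scalar (Fin 3) c := by
  intro hc
  apply h
  have h1 : ((L * U : Matrix.SpecialLinearGroup (Fin 3) K) : Matrix (Fin 3) (Fin 3) K) 0 0 = 1 := by
    have h2 : ((L * U : Matrix.SpecialLinearGroup (Fin 3) K) : Matrix (Fin 3) (Fin 3) K) 0 0 =
        ∑ k, (L : Matrix (Fin 3) (Fin 3) K) 0 k * (U : Matrix (Fin 3) (Fin 3) K) k 0 := by
      rw [Matrix.SpecialLinearGroup.coe_mul, Matrix.mul_apply]
    have e1 : (U : Matrix (Fin 3) (Fin 3) K) 1 0 = 0 := hU.1 (i := 1) (j := 0) (by decide)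
    have e2 : (U : Matrix (Fin 3) (Fin 3) K) 2 0 = 0 := hU.1 (i := 2) (j := 0) (by decide)
    have e3 : (U : Matrix (Fin 3) (Fin 3) K) 0 0 = 1 := hU.2 0
    have e4 : (L : Matrix (Fin 3) (Fin 3) K) 0 0 = 1 := hL.2 0
    rw [h2, Fin.sum_univ_three, e1, e2, e3, e4]
    simp
  rw [hc, Matrix.scalar_apply, Matrix.diagonal_apply_eq] at h1
  apply Subtype.ext
  rw [hc, h1]
  simp

/-- a matrix which is not scalar -/
theorem exists_ns (K : Type u) [Field K] :
    ∃ A : Matrix.SpecialLinearGroup (Fin 3) K, ∀ c : K, A.1 ≠ Matrix.scalar (Fin 3) c := by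
  refine ⟨Matrix.SpecialLinearGroup.transvection (show (0 : Fin 3) ≠ 1 by decide) 1, fun c hc => ?_⟩
  have h1 := congrFun (congrFun hc 0) 1
  rw [Matrix.scalar_apply, Matrix.diagonal_apply_ne _ (by decide)] at h1
  simp [Matrix.SpecialLinearGroup.transvection, Matrix.transvection] at h1

/-- `L * U`, characteristic polynomials `(X - ν) p` -/
theorem p_nu (hK' : Nat.card K' = Nat.card K ^ d) (hd : 2 ∣ d) {n : ℕ} {ν : K} (hν0 : ν ≠ 0) (hν : ν ^ 2 ≠ 1)
    (hn : (Nat.card K + 1).Coprime n) (hνn : (orderOf ν).Coprime n) :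
    ∀ L ∈ LT 3 K, ∀ U ∈ UT 3 K, ∃ x y : Matrix.SpecialLinearGroup (Fin 3) K, L * U = x * y ∧
      Ev (algebraMap K K') (E₁ (Nat.card K + 1) n) x ∧ Ev (algebraMap K K') (E₁ (Nat.card K + 1) n) y := by
  intro L hL U hU
  obtain ⟨p, hm, hpd, hp0, hr⟩ := Cfsg.Agent.H166.Cov.exists_rootless (F := K) (d := 2) (by norm_num) (inv_ne_zero hν0)
  have hp : Irreducible p := by
    rw [hm.irreducible_iff_roots_eq_zero_of_degree_le_three (by omega) (by omega)]
    exact Multiset.eq_zero_of_forall_notMem fun x hx => hr x ((mem_roots hm.ne_zero).1 hx)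
  have key : ∀ z : Matrix.SpecialLinearGroup (Fin 3) K, z.1.charpoly = (X - C ν) * p →
      Ev (algebraMap K K') (E₁ (Nat.card K + 1) n) z := fun z hz => ev_nu hK' hd hν hn hνn hp hm hpd hp0 hz
  by_cases h : L * U = 1
  · obtain ⟨A, hA⟩ := exists_ns K
    obtain ⟨x, y, -, h1, -⟩ := exists_nu hν0 hm hpd hp0 hA
    exact ⟨x, x⁻¹, by rw [h, mul_inv_cancel], key x h1, ev_inv (fun lam => E₁_inv) (key x h1)⟩
  · obtain ⟨x, y, h0, h1, h2⟩ := exists_nu hν0 hm hpd hp0 (lu_scalar hL hU h)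
    exact ⟨x, y, h0, key x h1, key y h2⟩

end

end Cfsg.Agent.H85.Pw
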