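import Cfsg.Agent.H126.M3.Main

/-!
# `SL_3(4)`: products of two elements of order `7` (S2465)

* `Gd` : `l = X * Y`, the characteristic polynomials of `X`, `Y` are `cu s r` or `cu r s`;
* `gd_reducible` : `l` with an eigenvalue, `1` or not scalar;
* `p_three_four` : `|K| = 4`, `L * U = X * Y`, `X`, `Y` irreducible of order `7`.
-/

set_option autoImplicit false

namespace Cfsg.Agent.H85.Pw.PThree

open Matrix Polynomial
open Cfsg.Agent.H126.M3

universe u

variable {K : Type u} [Field K]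

/-- `l` is a product of two elements with characteristic polynomials `cu s r`, `cu r s` -/
def Gd (s r : K) (l : Matrix (Fin 3) (Fin 3) K) : Prop :=
  ∃ X Y : Matrix (Fin 3) (Fin 3) K, X.det = 1 ∧ Y.det = 1 ∧ l = X * Y ∧
    (X.charpoly = cu s r ∨ X.charpoly = cu r s) ∧ (Y.charpoly = cu s r ∨ Y.charpoly = cu r s)

theorem Gd.conj {s r : K} {l l' R : Matrix (Fin 3) (Fin 3) K} (h : Gd s r l') (hR : R.det ≠ 0) (hl : l * R = R * l') :
    Gd s r l := by
  obtain ⟨X, Y, hX, hY, rfl, hXc, hYc⟩ := h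
  have hu : IsUnit R.det := isUnit_iff_ne_zero.2 hR
  have h1 : R * R⁻¹ = 1 := Matrix.mul_nonsing_inv _ hu
  have h2 : R⁻¹ * R = 1 := Matrix.nonsing_inv_mul _ hu
  let U : (Matrix (Fin 3) (Fin 3) K)ˣ := ⟨R, R⁻¹, h1, h2⟩
  have hc : ∀ M : Matrix (Fin 3) (Fin 3) K, (R * M * R⁻¹).charpoly = M.charpoly := fun M =>
    Matrix.charpoly_units_conj U M
  have hd : ∀ M : Matrix (Fin 3) (Fin 3) K, (R * M * R⁻¹).det = M.det := fun M => Matrix.det_units_conj U M
  refine ⟨R * X * R⁻¹, R * Y * R⁻¹, by rw [hd, hX], by rw [hd, hY], ?_, by rw [hc]; exact hXc, by rw [hc]; exact hYc⟩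
  calc l = l * R * R⁻¹ := by rw [mul_assoc, h1, mul_one]
    _ = R * X * (R⁻¹ * R) * Y * R⁻¹ := by rw [hl, h2]; simp only [mul_assoc, one_mul]
    _ = _ := by simp only [mul_assoc]

theorem co2 (a b c : K) : (X ^ 3 - C a * X ^ 2 + C b * X - C c : K[X]).coeff 2 = -a := by
  simp

theorem co1 (a b c : K) : (X ^ 3 - C a * X ^ 2 + C b * X - C c : K[X]).coeff 1 = b := by
  simp [coeff_C, coeff_X_pow]

/-- the characteristic polynomial of the inverse -/
theorem charpoly_of_inv {s r : K} {M M' : Matrix (Fin 3) (Fin 3) K} (hM : M.det = 1) (h : M.charpoly = cu s r)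
    (h1 : M' * M = 1) : M'.charpoly = cu r s := by
  have h2 : M * M.adjugate = 1 := by rw [Matrix.mul_adjugate, hM, one_smul]
  have h3 : M' = M.adjugate := by
    calc M' = M' * (M * M.adjugate) := by rw [h2, mul_one]
      _ = M.adjugate := by rw [← mul_assoc, h1, one_mul]
  have h4 : M.adjugate.det = 1 := by rw [Matrix.det_adjugate, hM, one_pow]
  have h0 := charpoly_three M
  rw [h, cu, hM] at h0
  have e1 := congrArg (fun p : K[X] => p.coeff 2) h0
  have e2 := congrArg (fun p : K[X] => p.coeff 1) h0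
  simp only [co2, co1, neg_inj] at e1 e2
  rw [Matrix.det_fin_three] at hM
  rw [h3, charpoly_three, h4, cu, Matrix.adjugate_fin_three]
  simp only [Matrix.of_apply, Matrix.cons_val', Matrix.cons_val_zero, Matrix.cons_val_one, Matrix.cons_val]
  congr 3
  · congr 1
    congr 1
    rw [e2]
    ring
  · congr 1
    rw [e1]
    linear_combination (M 0 0 + M 1 1 + M 2 2) * hM

/-! ### the unipotent cases -/

theorem gd_cU {c : K} (hc : c ^ 3 = 1) {r s a b w : K} (h1 : a + b = c ^ 2 * s - r)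
    (hw : w = a * (b + r) + s - c * r) : Gd s r (c • Um a b w) := by
  refine ⟨Zi r s, c • (Zm r s * Um a b w), det_Zi r s, det_Y hc r s a b w, ?_, Or.inl (charpoly_Zi r s),
    Or.inl (charpoly_Y hc h1 hw)⟩
  rw [Matrix.mul_smul, ← mul_assoc, Zi_mul, one_mul]

theorem gd_of_sim {s r : K} {N M : Matrix (Fin 3) (Fin 3) K} {c : K} (h : Gd s r (c • (1 + M)))
    (hs : ∃ R : Matrix (Fin 3) (Fin 3) K, R.det ≠ 0 ∧ N * R = R * M) : Gd s r (c • (1 + N)) := by
  obtain ⟨R, hR, h1⟩ := hs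
  refine h.conj hR ?_
  rw [Matrix.smul_mul, Matrix.mul_smul, add_mul, mul_add, h1, one_mul, mul_one]

theorem gd_tr {N : Matrix (Fin 3) (Fin 3) K} (h2 : N ^ 2 = 0) (h1 : N ≠ 0) {c : K} (hc : c ^ 3 = 1) {s r : K}
    (hroot : ∀ x, (cu s r).eval x ≠ 0) : Gd s r (c • (1 + N)) := by
  have hσ := sigma_ne hc hroot
  have hg := gd_cU hc (r := r) (s := s) (a := c ^ 2 * s - r) (b := 0)
    (w := (c ^ 2 * s - r) * (0 + r) + s - c * r) (by ring) rfl
  rw [Um_eq] at hg
  refine gd_of_sim hg ?_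
  obtain ⟨P, hP, hP'⟩ := sim_tr h2 h1
  obtain ⟨Q, hQ, hQ'⟩ := sim_tr (K := K)
    (N := !![0, c ^ 2 * s - r, (c ^ 2 * s - r) * (0 + r) + s - c * r; 0, 0, 0; 0, 0, 0]) (by
      rw [pow_two]
      ext i j
      fin_cases i <;> fin_cases j <;> simp [Matrix.mul_apply, Fin.sum_univ_three]) (by
      intro h
      apply hσ
      have := congrFun (congrFun h 0) 1
      simpa using this)
  exact sim_trans hP hP' hQ hQ'

theorem gd_reg {N : Matrix (Fin 3) (Fin 3) K} (h3 : N ^ 3 = 0) (h2 : N ^ 2 ≠ 0) {c : K} (hc : c ^ 3 = 1) {s r : K}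
    (hK : ∀ x : K, ∃ a : K, a ≠ 0 ∧ a ≠ x) : Gd s r (c • (1 + N)) := by
  obtain ⟨a, ha, ha'⟩ := hK (c ^ 2 * s - r)
  have hb : c ^ 2 * s - r - a ≠ 0 := sub_ne_zero.2 ha'.symm
  have hg := gd_cU hc (r := r) (s := s) (a := a) (b := c ^ 2 * s - r - a)
    (w := a * (c ^ 2 * s - r - a + r) + s - c * r) (by ring) rfl
  rw [Um_eq] at hg
  refine gd_of_sim hg ?_
  obtain ⟨P, hP, hP'⟩ := sim_reg h3 h2
  generalize c ^ 2 * s - r - a = b at hb
  generalize a * (b + r) + s - c * r = w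
  have e2 : (!![0, a, w; 0, 0, b; 0, 0, 0] : Matrix (Fin 3) (Fin 3) K) ^ 2 = !![0, 0, a * b; 0, 0, 0; 0, 0, 0] := by
    rw [pow_two]
    ext i j
    fin_cases i <;> fin_cases j <;> simp [Matrix.mul_apply, Fin.sum_univ_three]
  obtain ⟨Q, hQ, hQ'⟩ := sim_reg (K := K) (N := !![0, a, w; 0, 0, b; 0, 0, 0]) (by
      rw [pow_succ, e2]
      ext i j
      fin_cases i <;> fin_cases j <;> simp [Matrix.mul_apply, Fin.sum_univ_three]) (by
      rw [e2]
      intro h
      have := congrFun (congrFun h 0) 2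
      exact mul_ne_zero ha hb (by simpa using this))
  exact sim_trans hP hP' hQ hQ'

theorem gd_one (s r : K) : Gd s r (1 : Matrix (Fin 3) (Fin 3) K) :=
  ⟨Zi r s, Zm r s, det_Zi r s, det_Zm r s, (Zi_mul r s).symm, Or.inl (charpoly_Zi r s),
    Or.inr (charpoly_of_inv (det_Zi r s) (charpoly_Zi r s) (Zm_mul r s))⟩

/-! ### a simple eigenvalue -/

theorem gd_simple [Finite K] (hq : 4 ≤ Nat.card K) {l : Matrix (Fin 3) (Fin 3) K} (hl : l.det = 1) {x : K}
    {p : K[X]} (hp : l.charpoly = (X - C x) * p) (hx : p.eval x ≠ 0) {s r : K} (hirr : Irreducible (cu s r)) :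
    Gd s r l := by
  obtain ⟨Z, h, hZ, hh, hZh⟩ := Cfsg.Agent.H864.Ore.gl_comm hq l hl x p hp hx (cu s r) hirr (cu_monic s r)
    (by rw [cu_natDegree, Fintype.card_fin]) (by rw [Fintype.card_fin]; norm_num)
  have hZd : Z.det = 1 := by
    rw [Matrix.det_eq_sign_charpoly_coeff, hZ, cu_coeff, Fintype.card_fin]
    norm_num
  have huh : IsUnit h.det := by rw [hh]; exact isUnit_one
  have huZ : IsUnit Z.det := by rw [hZd]; exact isUnit_one
  have h1 : h * h⁻¹ = 1 := Matrix.mul_nonsing_inv _ huh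
  have h2 : h⁻¹ * h = 1 := Matrix.nonsing_inv_mul _ huh
  have h3 : Z * Z⁻¹ = 1 := Matrix.mul_nonsing_inv _ huZ
  have h4 : Z⁻¹ * Z = 1 := Matrix.nonsing_inv_mul _ huZ
  let U : (Matrix (Fin 3) (Fin 3) K)ˣ := ⟨h, h⁻¹, h1, h2⟩
  have hc : ∀ M : Matrix (Fin 3) (Fin 3) K, (h * M * h⁻¹).charpoly = M.charpoly := fun M =>
    Matrix.charpoly_units_conj U M
  have hd : ∀ M : Matrix (Fin 3) (Fin 3) K, (h * M * h⁻¹).det = M.det := fun M => Matrix.det_units_conj U M
  refine ⟨h * Z * h⁻¹, Z⁻¹, by rw [hd, hZd], ?_, ?_, by rw [hc]; exact Or.inl hZ, Or.inr (charpoly_of_inv hZd hZ h4)⟩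
  · have := congrArg Matrix.det h3
    rwa [Matrix.det_mul, hZd, one_mul, Matrix.det_one] at this
  · rw [← hZh]
    calc l = l * (Z * Z⁻¹) := by rw [h3, mul_one]
      _ = l * Z * (h * h⁻¹) * Z⁻¹ := by rw [h1]; simp only [mul_assoc, mul_one]
      _ = _ := by simp only [mul_assoc]

/-- **elements with an eigenvalue** -/
theorem gd_reducible [Finite K] (hq : 4 ≤ Nat.card K) {s r : K} (hirr : Irreducible (cu s r))
    (hroot : ∀ x, (cu s r).eval x ≠ 0) {l : Matrix (Fin 3) (Fin 3) K} (hl : l.det = 1)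
    (hs : ∀ c : K, l ≠ c • (1 : Matrix (Fin 3) (Fin 3) K)) {x : K} (hx : l.charpoly.eval x = 0) : Gd s r l := by
  obtain ⟨p, hp⟩ := dvd_iff_isRoot.2 hx
  have hpm : p.Monic := (monic_X_sub_C x).of_mul_monic_left (hp ▸ l.charpoly_monic)
  by_cases hpx : p.eval x = 0
  swap
  · exact gd_simple hq hl hp hpx hirr
  obtain ⟨p2, hp2⟩ := dvd_iff_isRoot.2 hpx
  have hpm2 : p2.Monic := (monic_X_sub_C x).of_mul_monic_left (hp2 ▸ hpm)
  have hd : p2.natDegree = 1 := by
    have h1 : l.charpoly.natDegree = 3 := by rw [Matrix.charpoly_natDegree_eq_dim, Fintype.card_fin]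
    rw [hp, hp2, (monic_X_sub_C x).natDegree_mul ((monic_X_sub_C x).mul hpm2), (monic_X_sub_C x).natDegree_mul hpm2,
      natDegree_X_sub_C] at h1
    omega
  obtain ⟨y, hy⟩ : ∃ y, p2 = X - C y := by
    refine ⟨-p2.coeff 0, ?_⟩
    have h1 := hpm2.as_sum
    rw [hd, Finset.sum_range_one] at h1
    rw [h1]
    simp
  by_cases hxy : y = x
  swap
  · refine gd_simple (x := y) (p := (X - C x) * (X - C x)) hq hl ?_ ?_ hirr
    · rw [hp, hp2, hy]
      ring
    · simp only [eval_mul, eval_sub, eval_X, eval_C]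
      exact mul_ne_zero (sub_ne_zero.2 hxy) (sub_ne_zero.2 hxy)
  -- all eigenvalues are equal
  rw [hxy] at hy
  have hch : l.charpoly = (X - C x) ^ 3 := by
    rw [hp, hp2, hy]
    ring
  have hx3 : x ^ 3 = 1 := by
    have h1 := Matrix.det_eq_sign_charpoly_coeff l
    rw [hl, hch, Fintype.card_fin, coeff_zero_eq_eval_zero] at h1
    simp only [eval_pow, eval_sub, eval_X, eval_C] at h1
    rw [h1]
    ring
  have hCH : (l - x • (1 : Matrix (Fin 3) (Fin 3) K)) ^ 3 = 0 := by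
    have h1 := Matrix.aeval_self_charpoly l
    rw [hch, map_pow, map_sub, aeval_X, aeval_C, Algebra.algebraMap_eq_smul_one] at h1
    exact h1
  have hlN : l = x • (1 + (x ^ 2 • l - 1)) := by
    rw [add_sub_cancel, smul_smul, ← pow_succ', hx3, one_smul]
  have hN3 : (x ^ 2 • l - 1) ^ 3 = 0 := by
    have h1 : x ^ 2 • l - 1 = x ^ 2 • (l - x • (1 : Matrix (Fin 3) (Fin 3) K)) := by
      rw [smul_sub, smul_smul, ← pow_succ, hx3, one_smul]
    rw [h1, _root_.smul_pow, hCH, smul_zero]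
  rw [hlN]
  by_cases h1 : (x ^ 2 • l - 1) = 0
  · exfalso
    apply hs x
    rw [h1, add_zero] at hlN
    exact hlN
  by_cases h2 : (x ^ 2 • l - 1) ^ 2 = 0
  · exact gd_tr h2 h1 hx3 hroot
  · exact gd_reg hN3 h2 hx3 (exists_ne_ne hq)

/-! ### irreducible elements -/

/-- irreducible elements with the same characteristic polynomial are conjugate -/
theorem gd_of_charpoly [Finite K] {s r : K} {l P : Matrix (Fin 3) (Fin 3) K} (hl : l.det = 1) (hP : Gd s r P)
    (hirr : Irreducible l.charpoly) (h : l.charpoly = P.charpoly) : Gd s r l := by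
  have hPd : P.det = 1 := by
    obtain ⟨X, Y, h1, h2, rfl, -, -⟩ := hP
    rw [Matrix.det_mul, h1, h2, one_mul]
  obtain ⟨P', rfl⟩ : ∃ P' : SpecialLinearGroup (Fin 3) K, (P' : Matrix (Fin 3) (Fin 3) K) = P := ⟨⟨P, hPd⟩, rfl⟩
  obtain ⟨l', rfl⟩ : ∃ l' : SpecialLinearGroup (Fin 3) K, (l' : Matrix (Fin 3) (Fin 3) K) = l := ⟨⟨l, hl⟩, rfl⟩
  obtain ⟨g, hg⟩ := H150.MF.exists_conj (H150.MF.cls_of_irreducible (h ▸ hirr)) (H150.MF.cls_of_irreducible hirr) h.symm
  refine hP.conj (R := (g : Matrix (Fin 3) (Fin 3) K)) (by rw [g.2]; exact one_ne_zero) ?_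
  have h1 : l' * g = g * P' := by rw [hg]; group
  exact (Matrix.SpecialLinearGroup.coe_mul l' g).symm.trans
    ((congrArg (fun z : SpecialLinearGroup (Fin 3) K => (z : Matrix (Fin 3) (Fin 3) K)) h1).trans
      (Matrix.SpecialLinearGroup.coe_mul g P'))

theorem Gd.inv {s r : K} {l l' : Matrix (Fin 3) (Fin 3) K} (h : Gd s r l') (h1 : l * l' = 1) : Gd s r l := by
  obtain ⟨X, Y, hX, hY, rfl, hXc, hYc⟩ := h
  have huX : IsUnit X.det := by rw [hX]; exact isUnit_one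
  have huY : IsUnit Y.det := by rw [hY]; exact isUnit_one
  have e1 : X * X⁻¹ = 1 := Matrix.mul_nonsing_inv _ huX
  have e2 : X⁻¹ * X = 1 := Matrix.nonsing_inv_mul _ huX
  have e3 : Y * Y⁻¹ = 1 := Matrix.mul_nonsing_inv _ huY
  have e4 : Y⁻¹ * Y = 1 := Matrix.nonsing_inv_mul _ huY
  refine ⟨Y⁻¹, X⁻¹, ?_, ?_, ?_, ?_, ?_⟩
  · have := congrArg Matrix.det e3
    rwa [Matrix.det_mul, hY, one_mul, Matrix.det_one] at this
  · have := congrArg Matrix.det e1
    rwa [Matrix.det_mul, hX, one_mul, Matrix.det_one] at this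
  · calc l = l * (X * (Y * Y⁻¹) * X⁻¹) := by rw [e3, mul_one, e1, mul_one]
      _ = l * (X * Y) * (Y⁻¹ * X⁻¹) := by simp only [mul_assoc]
      _ = _ := by rw [h1, one_mul]
  · exact hYc.symm.imp (fun h => charpoly_of_inv hY h e4) fun h => charpoly_of_inv hY h e4
  · exact hXc.symm.imp (fun h => charpoly_of_inv hX h e2) fun h => charpoly_of_inv hX h e2

theorem charpoly_cu {s r : K} {M : Matrix (Fin 3) (Fin 3) K} (h1 : M 0 0 + M 1 1 + M 2 2 = s)
    (h2 : M 0 0 * M 1 1 - M 0 1 * M 1 0 + (M 0 0 * M 2 2 - M 0 2 * M 2 0) + (M 1 1 * M 2 2 - M 1 2 * M 2 1) = r)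
    (h3 : M.det = 1) : M.charpoly = cu s r := by
  rw [charpoly_three, h1, h2, h3, cu]

/-! ### the field with four elements -/

theorem two_eq_zero [Finite K] (hK : Nat.card K = 4) : (2 : K) = 0 := by
  have := Fintype.ofFinite K
  have h1 : ((Fintype.card K : ℕ) : K) = 0 := Nat.cast_card_eq_zero K
  rw [← Nat.card_eq_fintype_card, hK] at h1
  have h2 : (2 : K) * 2 = 0 := by
    rw [← h1]
    norm_num
  exact mul_self_eq_zero.1 h2

theorem cube_eq_one [Finite K] (hK : Nat.card K = 4) {x : K} (hx : x ≠ 0) : x ^ 3 = 1 := by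
  have := Fintype.ofFinite K
  have h1 := FiniteField.pow_card_sub_one_eq_one x hx
  rwa [← Nat.card_eq_fintype_card, hK] at h1

theorem root_four [Finite K] (hK : Nat.card K = 4) (x : K) : (cu 0 1 : K[X]).eval x ≠ 0 := by
  have h2 := two_eq_zero hK
  rw [cu_eval]
  intro h
  by_cases hx : x = 0
  · rw [hx] at h
    norm_num at h
  · have h3 := cube_eq_one hK hx
    apply hx
    linear_combination h - h3

theorem irr_four [Finite K] (hK : Nat.card K = 4) : Irreducible (cu 0 1 : K[X]) :=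
  irr_of_poly (cu_monic 0 1) (cu_natDegree 0 1) (root_four hK)

/-- `X³ - a X² - 1` -/
theorem gd_a [Finite K] (hK : Nat.card K = 4) {l : Matrix (Fin 3) (Fin 3) K} (hl : l.det = 1) {a : K} (ha : a ≠ 0)
    (h : l.charpoly = cu a 0) (hirr : Irreducible l.charpoly) : Gd 0 1 l := by
  have h2 := two_eq_zero hK
  have h3 := cube_eq_one hK ha
  have hZ : (Zi 1 0 : Matrix (Fin 3) (Fin 3) K) = !![0, 1, 0; -1, 0, 1; 1, 0, 0] := rfl
  by_cases h1 : a = 1
  · have e : Zi 1 0 * !![0, 1, 0; 0, 1, 1; 1, 0, 1] = (!![0, 1, 1; 1, -1, 1; 0, 1, 0] : Matrix (Fin 3) (Fin 3) K) := by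
      rw [hZ]
      ext i j
      fin_cases i <;> fin_cases j <;> simp [Matrix.mul_apply, Fin.sum_univ_three]
    have hd : (!![0, 1, 0; 0, 1, 1; 1, 0, 1] : Matrix (Fin 3) (Fin 3) K).det = 1 := by
      simp [Matrix.det_fin_three]
    refine gd_of_charpoly hl (P := Zi 1 0 * !![0, 1, 0; 0, 1, 1; 1, 0, 1]) ?_ hirr ?_
    · refine ⟨_, _, det_Zi 1 0, hd, rfl, Or.inl (charpoly_Zi 1 0), Or.inl (charpoly_cu ?_ ?_ hd)⟩
      · simp
        linear_combination h2
      · simp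
    · rw [h, h1, e]
      refine (charpoly_cu ?_ ?_ ?_).symm
      · simp
        linear_combination -h2
      · simp
        linear_combination -h2
      · simp [Matrix.det_fin_three]
        try linear_combination h2
  · have ha2 : a ^ 2 + a + 1 = 0 := by
      have h4 : (a - 1) * (a ^ 2 + a + 1) = 0 := by linear_combination h3
      exact (mul_eq_zero.1 h4).resolve_left (sub_ne_zero.2 h1)
    have e : Zi 1 0 * !![0, a ^ 2, 0; 0, 0, 1; a, 1, 0] =
        (!![0, 0, 1; a, 1 - a ^ 2, 0; 0, a ^ 2, 0] : Matrix (Fin 3) (Fin 3) K) := by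
      rw [hZ]
      ext i j
      fin_cases i <;> fin_cases j <;> simp [Matrix.mul_apply, Fin.sum_univ_three]
      ring
    have hd : (!![0, a ^ 2, 0; 0, 0, 1; a, 1, 0] : Matrix (Fin 3) (Fin 3) K).det = 1 := by
      simp [Matrix.det_fin_three]
      linear_combination h3
    refine gd_of_charpoly hl (P := Zi 1 0 * !![0, a ^ 2, 0; 0, 0, 1; a, 1, 0]) ?_ hirr ?_
    · refine ⟨_, _, det_Zi 1 0, hd, rfl, Or.inl (charpoly_Zi 1 0), Or.inl (charpoly_cu ?_ ?_ hd)⟩
      · simp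
      · simp
        linear_combination -h2
    · rw [h, e]
      refine (charpoly_cu ?_ ?_ ?_).symm
      · simp
        linear_combination -ha2 + h2
      · simp
      · simp [Matrix.det_fin_three]
        linear_combination h3

theorem gd_four [Finite K] (hK : Nat.card K = 4) {l : Matrix (Fin 3) (Fin 3) K} (hl : l.det = 1)
    (hs : l = 1 ∨ ∀ c : K, l ≠ c • (1 : Matrix (Fin 3) (Fin 3) K)) : Gd 0 1 l := by
  rcases hs with rfl | hs
  · exact gd_one 0 1
  by_cases hl0 : ∀ x, l.charpoly.eval x ≠ 0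
  swap
  · push Not at hl0
    obtain ⟨x, hx⟩ := hl0
    exact gd_reducible (by rw [hK]) (irr_four hK) (root_four hK) hl hs hx
  have hirr := (irr_iff l).2 hl0
  obtain ⟨a, b, hab⟩ : ∃ a b : K, l.charpoly = cu a b := ⟨_, _, charpoly_cu rfl rfl hl⟩
  have h1 : b - a ≠ 0 := by
    intro h
    apply hl0 1
    rw [hab, cu_eval]
    linear_combination h
  have hz : a = 0 ∨ b = 0 := by
    by_contra hcon
    push Not at hcon
    have hx : b / a ≠ 0 := div_ne_zero hcon.2 hcon.1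
    apply hl0 (b / a)
    rw [hab, cu_eval]
    have h3 := cube_eq_one hK hx
    have h4 : a * (b / a) = b := mul_div_cancel₀ b hcon.1
    linear_combination h3 - (b / a) * h4
  rcases hz with rfl | rfl
  · have hu : IsUnit l.det := by rw [hl]; exact isUnit_one
    have e1 : l * l⁻¹ = 1 := Matrix.mul_nonsing_inv _ hu
    have e2 : l⁻¹ * l = 1 := Matrix.nonsing_inv_mul _ hu
    have hd : l⁻¹.det = 1 := by
      have := congrArg Matrix.det e1
      rwa [Matrix.det_mul, hl, one_mul, Matrix.det_one] at this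
    refine (gd_a hK hd (a := b) ?_ (charpoly_of_inv hl hab e2) (irr_inv hirr e1)).inv e1
    rwa [sub_zero] at h1
  · refine gd_a hK hl (a := a) ?_ hab hirr
    intro h
    rw [h, sub_zero] at h1
    exact h1 rfl

theorem pow_seven [Finite K] (hK : Nat.card K = 4) {M : Matrix (Fin 3) (Fin 3) K}
    (h : M.charpoly = cu 0 1 ∨ M.charpoly = cu 1 0) : M ^ 7 = 1 := by
  have h2 := two_eq_zero hK
  have h2M : ∀ N : Matrix (Fin 3) (Fin 3) K, N + N = 0 := fun N => by
    rw [← two_smul K N, h2, zero_smul]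
  have hCH := Matrix.aeval_self_charpoly M
  rcases h with h | h
  · rw [h, cu] at hCH
    simp only [map_sub, map_add, map_pow, aeval_X, map_zero, zero_mul, map_one, one_mul, sub_zero] at hCH
    have h3 : M ^ 3 = M + 1 := by
      have : M ^ 3 = (M ^ 3 + M - 1) - (M + M) + (M + 1) := by abel
      rw [this, hCH, h2M, sub_zero, zero_add]
    calc M ^ 7 = M * (M ^ 3) * (M ^ 3) := by rw [← pow_succ', ← pow_add]
      _ = M * (M + 1) * (M + 1) := by rw [h3]
      _ = M ^ 3 + (M * M + M * M) + M := by noncomm_ring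
      _ = (M + M) + 1 := by rw [h2M, h3]; abel
      _ = 1 := by rw [h2M, zero_add]
  · rw [h, cu] at hCH
    simp only [map_sub, map_pow, aeval_X, map_zero, zero_mul, map_one, one_mul, add_zero] at hCH
    have h3 : M ^ 3 = M ^ 2 + 1 := by
      have : M ^ 3 = (M ^ 3 - M ^ 2 - 1) + (M ^ 2 + 1) := by abel
      rw [this, hCH, zero_add]
    calc M ^ 7 = M * (M ^ 3) * (M ^ 3) := by rw [← pow_succ', ← pow_add]
      _ = M * (M ^ 2 + 1) * (M ^ 2 + 1) := by rw [h3]
      _ = M ^ 3 * M ^ 2 + (M ^ 3 + M ^ 3) + M := by noncomm_ring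
      _ = (M ^ 2 + 1) * M ^ 2 + M := by rw [h2M, h3, add_zero]
      _ = M ^ 3 * M + M ^ 2 + M := by noncomm_ring
      _ = (M ^ 2 + 1) * M + M ^ 2 + M := by rw [h3]
      _ = M ^ 3 + (M + M) + M ^ 2 := by noncomm_ring
      _ = (M ^ 2 + M ^ 2) + 1 := by rw [h2M, h3]; abel
      _ = 1 := by rw [h2M, zero_add]

/-- **`SL_3(4)`**, matrices -/
theorem mat_three_four [Finite K] (hK : Nat.card K = 4) {l : Matrix (Fin 3) (Fin 3) K} (hl : l.det = 1)
    (hs : l = 1 ∨ ∀ c : K, l ≠ c • (1 : Matrix (Fin 3) (Fin 3) K)) :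
    ∃ X Y : Matrix (Fin 3) (Fin 3) K, l = X * Y ∧ X.det = 1 ∧ Y.det = 1 ∧ Irreducible X.charpoly ∧
      Irreducible Y.charpoly ∧ X ^ 7 = 1 ∧ Y ^ 7 = 1 ∧ (X.charpoly = cu 0 1 ∨ X.charpoly = cu 1 0) ∧
      (Y.charpoly = cu 0 1 ∨ Y.charpoly = cu 1 0) := by
  obtain ⟨X, Y, hX, hY, h1, h2, h3⟩ := gd_four hK hl hs
  have hirr' : Irreducible (cu 1 0 : K[X]) := by
    have e0 : (Zi (K := K) 1 0).charpoly = cu 0 1 := charpoly_Zi 1 0
    have e1 : Zi (K := K) 1 0 * Zm 1 0 = 1 := Zi_mul 1 0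
    have e2 : Zm (K := K) 1 0 * Zi 1 0 = 1 := Zm_mul 1 0
    have h4 : Irreducible (Zm (K := K) 1 0).charpoly := irr_inv (by rw [e0]; exact irr_four hK) e1
    rwa [charpoly_of_inv (det_Zi 1 0) e0 e2] at h4
  have key : ∀ M : Matrix (Fin 3) (Fin 3) K, (M.charpoly = cu 0 1 ∨ M.charpoly = cu 1 0) → Irreducible M.charpoly := by
    rintro M (h | h)
    · rw [h]; exact irr_four hK
    · rw [h]; exact hirr'
  exact ⟨X, Y, h1, hX, hY, key _ h2, key _ h3, pow_seven hK h2, pow_seven hK h3, h2, h3⟩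

/-- **`SL_3(4)`** -/
theorem p_three_four [Finite K] (hK : Nat.card K = 4) (v u : SpecialLinearGroup (Fin 3) K)
    (hv : v ∈ H162.GaussSL.LT 3 K) (hu : u ∈ H162.GaussSL.UT 3 K) :
    ∃ X Y : SpecialLinearGroup (Fin 3) K, v * u = X * Y ∧ Irreducible (X : Matrix (Fin 3) (Fin 3) K).charpoly ∧
      Irreducible (Y : Matrix (Fin 3) (Fin 3) K).charpoly ∧ X ^ 7 = 1 ∧ Y ^ 7 = 1 := by
  have hs : ((v * u : SpecialLinearGroup (Fin 3) K) : Matrix (Fin 3) (Fin 3) K) = 1 ∨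
      ∀ c : K, ((v * u : SpecialLinearGroup (Fin 3) K) : Matrix (Fin 3) (Fin 3) K) ≠
        c • (1 : Matrix (Fin 3) (Fin 3) K) := by
    by_cases h : v * u = 1
    · left
      rw [h]
      exact Matrix.SpecialLinearGroup.coe_one
    right
    intro c hc
    apply h
    have h1 : ((v * u : SpecialLinearGroup (Fin 3) K) : Matrix (Fin 3) (Fin 3) K) 0 0 = 1 := by
      have h2 : ((v * u : SpecialLinearGroup (Fin 3) K) : Matrix (Fin 3) (Fin 3) K) 0 0 =
          ∑ k, (v : Matrix (Fin 3) (Fin 3) K) 0 k * (u : Matrix (Fin 3) (Fin 3) K) k 0 := by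
        rw [Matrix.SpecialLinearGroup.coe_mul, Matrix.mul_apply]
      have e1 : (u : Matrix (Fin 3) (Fin 3) K) 1 0 = 0 := hu.1 (i := 1) (j := 0) (by decide)
      have e2 : (u : Matrix (Fin 3) (Fin 3) K) 2 0 = 0 := hu.1 (i := 2) (j := 0) (by decide)
      have e3 : (u : Matrix (Fin 3) (Fin 3) K) 0 0 = 1 := hu.2 0
      have e4 : (v : Matrix (Fin 3) (Fin 3) K) 0 0 = 1 := hv.2 0
      rw [h2, Fin.sum_univ_three, e1, e2, e3, e4]
      simp
    rw [hc, Matrix.smul_apply, Matrix.one_apply_eq, smul_eq_mul, mul_one] at h1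
    apply Subtype.ext
    rw [hc, h1, one_smul]
    exact Matrix.SpecialLinearGroup.coe_one.symm
  obtain ⟨X, Y, hX, hY, h1, h2, h3⟩ := gd_four hK (v * u).2 hs
  obtain ⟨X', rfl⟩ : ∃ X' : SpecialLinearGroup (Fin 3) K, (X' : Matrix (Fin 3) (Fin 3) K) = X := ⟨⟨X, hX⟩, rfl⟩
  obtain ⟨Y', rfl⟩ : ∃ Y' : SpecialLinearGroup (Fin 3) K, (Y' : Matrix (Fin 3) (Fin 3) K) = Y := ⟨⟨Y, hY⟩, rfl⟩
  have hirr' : Irreducible (cu 1 0 : K[X]) := by
    have e0 : (Zi (K := K) 1 0).charpoly = cu 0 1 := charpoly_Zi 1 0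
    have e1 : Zi (K := K) 1 0 * Zm 1 0 = 1 := Zi_mul 1 0
    have e2 : Zm (K := K) 1 0 * Zi 1 0 = 1 := Zm_mul 1 0
    have h4 : Irreducible (Zm (K := K) 1 0).charpoly := irr_inv (by rw [e0]; exact irr_four hK) e1
    rwa [charpoly_of_inv (det_Zi 1 0) e0 e2] at h4
  have key : ∀ M : Matrix (Fin 3) (Fin 3) K, (M.charpoly = cu 0 1 ∨ M.charpoly = cu 1 0) → Irreducible M.charpoly := by
    rintro M (h | h)
    · rw [h]; exact irr_four hK
    · rw [h]; exact hirr'
  refine ⟨X', Y', Subtype.ext (h1.trans (Matrix.SpecialLinearGroup.coe_mul X' Y').symm), key _ h2, key _ h3,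
    Subtype.ext ?_, Subtype.ext ?_⟩
  · exact (Matrix.SpecialLinearGroup.coe_pow X' 7).trans ((pow_seven hK h2).trans Matrix.SpecialLinearGroup.coe_one.symm)
  · exact (Matrix.SpecialLinearGroup.coe_pow Y' 7).trans ((pow_seven hK h3).trans Matrix.SpecialLinearGroup.coe_one.symm)

end Cfsg.Agent.H85.Pw.PThree
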