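import Cfsg.Agent.H85.Pw.FTab
import Cfsg.Agent.H85.Pw.Cub
import Cfsg.Agent.H85.Pw.PThree

/-!
# `F_4(q)`, `q ≥ 4`: products of two elements of order prime to `6` (S2465)

* `six_F4` : `All 6 (F_4(q))` for `q = 2 ^ a`, `3 ^ a`, `q ≥ 4`.
-/

set_option autoImplicit false

namespace Cfsg.Agent.H85.Pw.FFour

open Cfsg.Lie Cfsg.Agent.H85.Pw Cfsg.Agent.H78.Pw Cfsg.Agent.H162.GaussSL

universe u

theorem coprime_six {N : ℕ} (h2 : N % 2 = 1) (h3 : N % 3 ≠ 0) : N.Coprime 6 := by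
  have e2 : N.Coprime 2 := (Nat.coprime_comm.1 ((Nat.Prime.coprime_iff_not_dvd Nat.prime_two).2 (by omega)))
  have e3 : N.Coprime 3 := (Nat.coprime_comm.1 ((Nat.Prime.coprime_iff_not_dvd Nat.prime_three).2 (by omega)))
  exact Nat.Coprime.mul_right e2 e3

theorem six_aux {q : ℕ} (h : q % 3 ≠ 1) : (1 + q + q ^ 2).Coprime 6 := by
  have e2 : q ^ 2 % 2 = q % 2 := by
    have h1 : q % 2 = 0 ∨ q % 2 = 1 := by omega
    rw [Nat.pow_mod]
    rcases h1 with h1 | h1 <;> rw [h1]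
  have e3 : (q % 3 = 0 ∧ q ^ 2 % 3 = 0) ∨ (q % 3 = 2 ∧ q ^ 2 % 3 = 1) := by
    have h1 : q % 3 = 0 ∨ q % 3 = 2 := by omega
    rw [Nat.pow_mod]
    rcases h1 with h1 | h1
    · left
      rw [h1]
      norm_num
    · right
      rw [h1]
      norm_num
  exact coprime_six (by omega) (by omega)

/-- numbers prime to `6` have prime divisors `≥ 5` -/
theorem exists_five {N : ℕ} (hN : N ≠ 1) (h2 : N % 2 = 1) (h3 : N % 3 ≠ 0) : ∃ ℓ : ℕ, ℓ.Prime ∧ 5 ≤ ℓ ∧ ℓ ∣ N := by
  have hp := Nat.minFac_prime hN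
  refine ⟨N.minFac, hp, ?_, Nat.minFac_dvd N⟩
  have hd := Nat.minFac_dvd N
  have h2' := hp.two_le
  by_contra hlt
  have h4 : N.minFac = 2 ∨ N.minFac = 3 ∨ N.minFac = 4 := by omega
  rcases h4 with h | h | h
  · rw [h] at hd
    omega
  · rw [h] at hd
    omega
  · rw [h] at hp
    exact absurd hp (by norm_num)

/-- a prime divisor `≥ 5` of `q - 1`, `q = 4 ^ k ≥ 16` -/
theorem exists_five_sub {e : ℕ} (h1 : 2 ^ e % 3 = 1) (h4 : 4 < 2 ^ e) : ∃ ℓ : ℕ, ℓ.Prime ∧ 5 ≤ ℓ ∧ ℓ ∣ 2 ^ e - 1 := by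
  obtain ⟨k, rfl | rfl⟩ := Nat.even_or_odd' e
  · have hk : 2 ≤ k := by
      by_contra hk
      have : k = 0 ∨ k = 1 := by omega
      rcases this with rfl | rfl <;> norm_num at h4
    have e1 : 2 ^ (2 * k) - 1 = (2 ^ k - 1) * (2 ^ k + 1) := by
      have h5 : 1 ≤ 2 ^ k := Nat.one_le_two_pow
      obtain ⟨c, hc⟩ : ∃ c, 2 ^ k = c + 1 := ⟨2 ^ k - 1, by omega⟩
      rw [mul_comm 2 k, pow_mul, hc, Nat.add_sub_cancel]
      have : (c + 1) ^ 2 = c * (c + 1 + 1) + 1 := by ring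
      rw [this, Nat.add_sub_cancel]
    have e2 : 4 ≤ 2 ^ k := by
      calc 4 = 2 ^ 2 := by norm_num
        _ ≤ 2 ^ k := Nat.pow_le_pow_right (by norm_num) hk
    have e3 : 2 ^ k % 2 = 0 := by
      obtain ⟨j, rfl⟩ : ∃ j, k = j + 1 := ⟨k - 1, by omega⟩
      rw [pow_succ]
      omega
    rw [e1]
    by_cases h3 : (2 ^ k - 1) % 3 = 0
    · obtain ⟨ℓ, a, b, c⟩ := exists_five (N := 2 ^ k + 1) (by omega) (by omega) (by omega)
      exact ⟨ℓ, a, b, c.mul_left _⟩
    · obtain ⟨ℓ, a, b, c⟩ := exists_five (N := 2 ^ k - 1) (by omega) (by omega) h3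
      exact ⟨ℓ, a, b, c.mul_right _⟩
  · exfalso
    have h5 : 2 ^ (2 * k + 1) % 3 = 2 := by
      rw [pow_succ, pow_mul, Nat.mul_mod, Nat.pow_mod]
      norm_num
    omega

/-- **`F_4(q)`, `q ≥ 4`, `q` a power of `2` or `3`** -/
theorem six_F4 {K : Type u} [Field K] [Finite K] (hq : 4 ≤ Nat.card K) (h : 2 ∣ Nat.card K ∨ 3 ∣ Nat.card K) :
    All 6 ↥(chevF4.group K) := by
  obtain ⟨p, hpc⟩ := CharP.exists K
  have hpp : Fact p.Prime := ⟨(CharP.char_is_prime_or_zero K p).resolve_right (CharP.char_ne_zero_of_finite K p)⟩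
  have := Fintype.ofFinite K
  obtain ⟨e, -, he⟩ := FiniteField.card K p
  rw [← Nat.card_eq_fintype_card] at he
  have hK' : Nat.card (FiniteField.Extension K p 6) = Nat.card K ^ 6 := FiniteField.natCard_extension K p 6
  have hp23 : p = 2 ∨ p = 3 := by
    rw [he] at h
    rcases h with h | h
    · left
      exact ((Nat.prime_dvd_prime_iff_eq Nat.prime_two hpp.1).1 (Nat.prime_two.dvd_of_dvd_pow h)).symm
    · right
      exact ((Nat.prime_dvd_prime_iff_eq Nat.prime_three hpp.1).1 (Nat.prime_three.dvd_of_dvd_pow h)).symm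
  by_cases h1 : Nat.card K % 3 = 1
  · have hp2 : p = 2 := by
      rcases hp23 with h2 | h2
      · exact h2
      · exfalso
        have h3 : 3 ∣ Nat.card K := by
          rw [he, h2]
          exact dvd_pow_self 3 e.2.ne'
        omega
    subst hp2
    have h2 : 2 ∣ Nat.card K := by
      rw [he]
      exact dvd_pow_self 2 e.2.ne'
    by_cases h4 : Nat.card K = 4
    · -- `q = 4`
      have hm : Nat.card K ^ 2 - 1 = 15 := by rw [h4]; norm_num
      refine all_F4_of (algebraMap K (FiniteField.Extension K 2 6)) (m := Nat.card K ^ 2 - 1) (n := 6)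
        (fun L hL U hU => ?_) (p_two_ev hK' (by norm_num) (ℓ := 5) Nat.prime_five le_rfl (by rw [hm]; norm_num)
          (by rw [hm]; norm_num) (by norm_num))
      obtain ⟨X, Y, h5, h6, h7, h8, h9⟩ := PThree.p_three_four h4 L U hL hU
      have key : ∀ Z : Matrix.SpecialLinearGroup (Fin 3) K, Z ^ 7 = 1 → (orderOf Z).Coprime 6 := fun Z hZ =>
        Nat.Coprime.of_dvd_left (orderOf_dvd_of_pow_eq_one hZ) (by norm_num)
      exact ⟨X, Y, h5, ev_irr hK' (by norm_num) (by norm_num) h6 (key X h8),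
        ev_irr hK' (by norm_num) (by norm_num) h7 (key Y h9)⟩
    · -- `q = 4 ^ k`, `q ≥ 16`
      have h5 : 4 < 2 ^ (e : ℕ) := by omega
      obtain ⟨ℓ, hℓ, hℓ5, hℓd⟩ := exists_five_sub (e := e) (by omega) h5
      obtain ⟨ℓ', hℓ', hℓ5', hℓd'⟩ := exists_five (N := Nat.card K + 1) (by omega) (by omega) (by omega)
      have h6 : ∀ {r : ℕ}, r.Prime → 5 ≤ r → r.Coprime 6 := by
        intro r hr h7
        refine (Nat.Prime.coprime_iff_not_dvd hr).2 fun h8 => ?_
        have h9 : r ∣ 2 * 3 := h8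
        rcases (hr.dvd_mul).1 h9 with h9 | h9
        · have := Nat.le_of_dvd (by norm_num) h9
          omega
        · have := Nat.le_of_dvd (by norm_num) h9
          omega
      have : Fact ℓ.Prime := ⟨hℓ⟩
      obtain ⟨g, hg⟩ := exists_prime_orderOf_dvd_card' (G := Kˣ) ℓ (by rw [Nat.card_units, he]; exact hℓd)
      have hg' : orderOf (g : K) = ℓ := by rw [orderOf_units, hg]
      refine all_F4_of (algebraMap K (FiniteField.Extension K 2 6)) (m := Nat.card K + 1) (n := 6)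
        (p_nu hK' (by norm_num) g.ne_zero ?_ (coprime_six (by omega) (by omega)) (by rw [hg']; exact h6 hℓ hℓ5))
        (p_two_ev hK' (by norm_num) hℓ' hℓ5' ?_ hℓd' (h6 hℓ' hℓ5'))
      · intro h7
        have h8 := orderOf_dvd_of_pow_eq_one h7
        rw [hg'] at h8
        have := Nat.le_of_dvd (by norm_num) h8
        omega
      · have h7 : Nat.card K ^ 2 - 1 = (Nat.card K + 1) * (Nat.card K - 1) := by
          have h8 := Nat.sq_sub_sq (Nat.card K) 1
          rwa [one_pow] at h8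
        rw [h7]
        exact hℓd'.mul_right _
  · -- `q` is not `1` mod `3`
    obtain ⟨ℓ, hℓ, hℓ5, hℓd⟩ := Cfsg.Agent.H267.Ore.PTwo.exists_prime hq h
    have h6 : ℓ.Coprime 6 := by
      refine (Nat.Prime.coprime_iff_not_dvd hℓ).2 fun h8 => ?_
      have h9 : ℓ ∣ 2 * 3 := h8
      rcases (hℓ.dvd_mul).1 h9 with h9 | h9
      · have := Nat.le_of_dvd (by norm_num) h9
        omega
      · have := Nat.le_of_dvd (by norm_num) h9
        omega
    have h7 : (1 + Nat.card K + Nat.card K ^ 2).Coprime 6 := six_aux h1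
    exact all_F4_of (algebraMap K (FiniteField.Extension K p 6)) (m := Nat.card K ^ 2 - 1) (n := 6)
      (p_irr hK' (by norm_num) hq h7) (p_two_ev hK' (by norm_num) hℓ hℓ5 hℓd hℓd h6)

end Cfsg.Agent.H85.Pw.FFour
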