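import Cfsg.Agent.H85.Pw.Roots
import Cfsg.Agent.H98.Pw.SLThree

/-!
# Elements of order prime to `(q - 1)(q² - 1)` of `SL_3(q)` are irreducible (S2465)

* `irr_of_pow` : `x ≠ 1`, `x ^ N = 1`, `N` prime to `q ^ 2 - 1` and to `q`;
* `p_three_three` : `|K| = 3`: `A = x y`, `x`, `y` irreducible, `x ^ 13 = y ^ 13 = 1`.
-/

set_option autoImplicit false
set_option linter.unusedSectionVars false

namespace Cfsg.Agent.H85.Pw

open Polynomial

universe u

theorem one_of_coprime {F : Type*} [Field F] {N₁ N₂ : ℕ} (hc : N₁.Coprime N₂) {v : F} (h1 : v ^ N₁ = 1)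
    (h2 : v ^ N₂ = 1) : v = 1 := by
  have h3 := Nat.dvd_gcd (orderOf_dvd_of_pow_eq_one h1) (orderOf_dvd_of_pow_eq_one h2)
  rw [hc.gcd_eq_one, Nat.dvd_one] at h3
  exact orderOf_eq_one_iff.1 h3

theorem irr_of_pow {K : Type u} [Field K] [Finite K] {N : ℕ} (hN0 : N ≠ 0) (h2 : N.Coprime (Nat.card K ^ 2 - 1))
    (hq : N.Coprime (Nat.card K)) {x : Matrix.SpecialLinearGroup (Fin 3) K} (hx : x ^ N = 1) (hx1 : x ≠ 1) :
    Irreducible x.1.charpoly := by
  obtain ⟨p, hpc⟩ := CharP.exists K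
  have hpp : Fact p.Prime := ⟨(CharP.char_is_prime_or_zero K p).resolve_right (CharP.char_ne_zero_of_finite K p)⟩
  have hK' : Nat.card (FiniteField.Extension K p 2) = Nat.card K ^ 2 := FiniteField.natCard_extension K p 2
  have := Fintype.ofFinite K
  have hd : x.1.charpoly.natDegree = 3 := by rw [Matrix.charpoly_natDegree_eq_dim, Fintype.card_fin]
  have hm := x.1.charpoly_monic
  by_contra hirr
  -- every root in the quadratic extension is one
  have key : ∀ z : FiniteField.Extension K p 2,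
      (x.1.charpoly.map (algebraMap K (FiniteField.Extension K p 2))).IsRoot z → z = 1 := by
    intro z hz
    have h3 := root_pow hx hz
    have := Fintype.ofFinite (FiniteField.Extension K p 2)
    have hz0 : z ≠ 0 := by
      rintro rfl
      rw [zero_pow hN0] at h3
      exact zero_ne_one h3
    have h4 := FiniteField.pow_card_sub_one_eq_one z hz0
    rw [← Nat.card_eq_fintype_card, hK'] at h4
    exact one_of_coprime h2 h3 h4
  have hkey : ∀ c : K, x.1.charpoly.IsRoot c → c = 1 := by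
    intro c hc
    apply (algebraMap K (FiniteField.Extension K p 2)).injective
    rw [map_one]
    exact key _ (hc.map)
  -- a root in `K`
  obtain ⟨c, hc⟩ : ∃ c, x.1.charpoly.IsRoot c := by
    by_contra hcon
    push Not at hcon
    apply hirr
    rw [hm.irreducible_iff_roots_eq_zero_of_degree_le_three (by omega) (by omega)]
    exact Multiset.eq_zero_of_forall_notMem fun y hy => hcon y ((mem_roots hm.ne_zero).1 hy)
  obtain rfl := hkey c hc
  obtain ⟨g, hg⟩ := dvd_iff_isRoot.2 hc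
  have hgm : g.Monic := (monic_X_sub_C (1 : K)).of_mul_monic_left (hg ▸ hm)
  have hgd : g.natDegree = 2 := by
    rw [hg, (monic_X_sub_C (1 : K)).natDegree_mul hgm, natDegree_X_sub_C] at hd
    omega
  have hgr : ∃ c, g.IsRoot c := by
    by_contra hcon
    push Not at hcon
    have hgi : Irreducible g := by
      rw [hgm.irreducible_iff_roots_eq_zero_of_degree_le_three (by omega) (by omega)]
      exact Multiset.eq_zero_of_forall_notMem fun y hy => hcon y ((mem_roots hgm.ne_zero).1 hy)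
    obtain ⟨lam, h3, h4⟩ := exists_lam_map (K' := FiniteField.Extension K p 2) hK' hgm hgd
      (irr_dvd hgi (by rw [hgd]))
    have h5 : ∀ a, lam a = 1 := by
      intro a
      apply key
      rw [hg, Polynomial.map_mul, h4, IsRoot.def, eval_mul, eval_prod]
      rw [Finset.prod_eq_zero (Finset.mem_univ a) (by simp), mul_zero]
    exact absurd (h3 ((h5 0).trans (h5 1).symm)) (by decide)
  obtain ⟨c, hc'⟩ := hgr
  obtain rfl := hkey c (by rw [hg]; exact IsRoot.def.2 (by rw [eval_mul, IsRoot.def.1 hc', mul_zero]))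
  obtain ⟨h, hh⟩ := dvd_iff_isRoot.2 hc'
  have hhm : h.Monic := (monic_X_sub_C (1 : K)).of_mul_monic_left (hh ▸ hgm)
  have hhd : h.natDegree = 1 := by
    rw [hh, (monic_X_sub_C (1 : K)).natDegree_mul hhm, natDegree_X_sub_C] at hgd
    omega
  obtain ⟨y, hy⟩ : ∃ y, h = X - C y := by
    refine ⟨-h.coeff 0, ?_⟩
    have h1 := hhm.as_sum
    rw [hhd, Finset.sum_range_one] at h1
    rw [h1]
    simp
  obtain rfl : y = 1 := hkey y (by
    rw [hg, hh, hy]
    simp [IsRoot.def])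
  -- unipotent
  have hch : x.1.charpoly = (X - C 1) ^ 3 := by
    rw [hg, hh, hy]
    ring
  have hCH : (x.1 - 1) ^ 3 = 0 := by
    have h1 := Matrix.aeval_self_charpoly x.1
    rwa [hch, map_pow, map_sub, aeval_X, map_one, map_one] at h1
  obtain ⟨e, he⟩ : ∃ e, 3 ≤ p ^ e := ⟨3, by
    calc 3 ≤ 2 ^ 3 := by norm_num
      _ ≤ p ^ 3 := Nat.pow_le_pow_left hpp.1.two_le 3⟩
  have h1 : x.1 ^ (p ^ e) = 1 := by
    have h3 : (x.1 - 1) ^ (p ^ e) = 0 := by
      rw [← Nat.sub_add_cancel he, pow_add, hCH, mul_zero]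
    have h4 : x.1 = 1 + (x.1 - 1) := by abel
    have h5 : Commute (1 : Matrix (Fin 3) (Fin 3) K) (x.1 - 1) := Commute.one_left _
    rw [h4, add_pow_char_pow_of_commute p e h5, one_pow]
    have h6 : (1 + (x.1 - 1) - 1 : Matrix (Fin 3) (Fin 3) K) = x.1 - 1 := by abel
    rw [h3, add_zero]
  have h3 : x ^ (p ^ e) = 1 := Subtype.ext ((Matrix.SpecialLinearGroup.coe_pow x (p ^ e)).trans
    (h1.trans Matrix.SpecialLinearGroup.coe_one.symm))
  have h4 : N.Coprime (p ^ e) := by
    obtain ⟨n, -, hn⟩ := FiniteField.card K p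
    have h5 : p ∣ Nat.card K := by
      rw [Nat.card_eq_fintype_card, hn]
      exact dvd_pow_self p n.2.ne'
    exact Nat.Coprime.pow_right e (Nat.Coprime.coprime_dvd_right h5 hq)
  have h5 := Nat.dvd_gcd (orderOf_dvd_of_pow_eq_one hx) (orderOf_dvd_of_pow_eq_one h3)
  rw [h4.gcd_eq_one, Nat.dvd_one] at h5
  exact hx1 (orderOf_eq_one_iff.1 h5)

/-- **`SL_3(3)`** -/
theorem p_three_three {K : Type u} [Field K] [Finite K] (hK : Nat.card K = 3) (A : Matrix.SpecialLinearGroup (Fin 3) K) :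
    ∃ x y : Matrix.SpecialLinearGroup (Fin 3) K, A = x * y ∧ Irreducible x.1.charpoly ∧ Irreducible y.1.charpoly ∧
      x ^ 13 = 1 ∧ y ^ 13 = 1 := by
  obtain ⟨x, y, h1, hx, hy, hx1, hy1⟩ := Cfsg.Agent.H98.Pw.sl_three hK A
  have h2 : Nat.Coprime 13 (Nat.card K ^ 2 - 1) := by rw [hK]; decide
  have h3 : Nat.Coprime 13 (Nat.card K) := by rw [hK]; decide
  exact ⟨x, y, h1, irr_of_pow (by norm_num) h2 h3 hx hx1, irr_of_pow (by norm_num) h2 h3 hy hy1, hx, hy⟩

/-- **`SL_3(2)`** -/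
theorem p_three_two {K : Type u} [Field K] [Finite K] (hK : Nat.card K = 2) (A : Matrix.SpecialLinearGroup (Fin 3) K) :
    ∃ x y : Matrix.SpecialLinearGroup (Fin 3) K, A = x * y ∧ Irreducible x.1.charpoly ∧ Irreducible y.1.charpoly ∧
      x ^ 7 = 1 ∧ y ^ 7 = 1 := by
  obtain ⟨x, y, h1, hx, hy, hx1, hy1⟩ := Cfsg.Agent.H98.Pw.sl_two hK A
  have h2 : Nat.Coprime 7 (Nat.card K ^ 2 - 1) := by rw [hK]; decide
  have h3 : Nat.Coprime 7 (Nat.card K) := by rw [hK]; decide
  exact ⟨x, y, h1, irr_of_pow (by norm_num) h2 h3 hx hx1, irr_of_pow (by norm_num) h2 h3 hy hy1, hx, hy⟩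

end Cfsg.Agent.H85.Pw
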