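import Cfsg.Agent.H85.Ore.Blk
import Cfsg.Agent.H482.Ore.Block
import Cfsg.Agent.H934.MF.Diag
import Cfsg.Agent.H85.Pw.EBlk
import Cfsg.Agent.H85.Pw.Two

/-!
# Two commuting blocks of type `A` in `D.group K` (S2465)

* `Tb` : the table of a block;  `Two` : the table of two commuting blocks which generate the Levi subgroup of `J`;
* `UJ_le₂`, `UNJ_le₂` : `U_J`, `U_J⁻` are in the products of the images of the unitriangular groups;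
* `Ev` : the eigenvalues over `K'`;
* `pairs_of_two` : if all `L * U` of the two blocks are products of two elements with eigenvalues in `E₁`, `E₂` such that no
  root outside `J` has value `1`, and `lam ^ N = 1`, then every element is a product of two elements with `a ^ N = 1`.
-/

set_option autoImplicit false
set_option linter.unusedSectionVars false

namespace Cfsg.Agent.H85.Pw.TwoS

open CoxeterSystem Cfsg.Agent.ChevalleyStructure.CoxeterGeom Cfsg.Agent.Tits.Roots Cfsg.Agent.Tits.Core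
  Cfsg.Agent.Nodes.Reps Cfsg.Agent.Nodes.BNOf Cfsg.Agent.Nodes.RGDLib Cfsg.Agent.Nodes.Bruhat
  Cfsg.Agent.Nodes.OppDec Cfsg.Agent.Nodes.LeviDec Cfsg.Agent.Nodes.KindChev Cfsg.Agent.Nodes.ChevCls
  Cfsg.Agent.OddHalf.NI.ModelChev
  Cfsg.Agent.H162.GaussDec Cfsg.Agent.H162.GaussLevi Cfsg.Agent.H162.GaussSL Cfsg.Agent.H162.GaussReg
  Cfsg.Agent.H162.GaussMain Cfsg.Agent.H162.GaussPQ Cfsg.Agent.H162.GaussExc
open Cfsg.Lie Cfsg.Agent.ChevalleyStructure Cfsg.Agent.ChevalleyStructure.Elts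
  Cfsg.Agent.ChevalleyStructure.RootVec Cfsg.Agent.ChevalleyStructure.NPerm
  Cfsg.Agent.ChevalleyStructure.CoxeterGeomTypes Cfsg.Agent.Nodes.RGDChev Cfsg.Agent.KFacts.RgdChevCoord
open Cfsg.Agent.H928.Ore.Frame (NF LP)
open Cfsg.Agent.H482.Ore.Fix (Bk Dz SimpB)
open Cfsg.Agent.H85.Ore Cfsg.Agent.H85.Pw
open Polynomial (X C)

universe u

/-! ### Tables -/

/-- the table of a block -/
structure Tb {D : ChevalleyDatum} {l : ℕ} {M : CoxeterMatrix (Fin l)} (hp : IsType D l M) (J : List (Fin l)) (n : ℕ)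
    (r : Fin (n + 2) → Fin (n + 2) → ℕ) (j : Fin (n + 1) → Fin l) (s : Fin (n + 2) → Fin (n + 2) → ℤ) : Prop where
  eps : ∀ a b, s a b * s a b = 1
  sym : ∀ a b, s b a = s a b
  up : ∀ a : Fin (n + 1), r a.castSucc a.succ = D.simple (j a)
  neg : ∀ a b, a ≠ b → r b a = D.neg (r a b)
  rlt : ∀ a b, a ≠ b → r a b < D.nroots
  rJ : ∀ a b, a ≠ b → ∀ k, k ∉ J → vec D l (r a b) k = 0
  hom : ∀ (F : Type) [Field F], ∃ φ : Matrix.SpecialLinearGroup (Fin (n + 2)) F →* ↥(D.group F),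
    ∀ a b (hab : a ≠ b) c, φ (Matrix.SpecialLinearGroup.transvection hab c) = xc hp (vec D l (r a b)) ((s a b : F) * c)

section

variable {D : ChevalleyDatum} {l : ℕ} {M : CoxeterMatrix (Fin l)} (hp : IsType D l M) {J : List (Fin l)} {n₁ n₂ : ℕ}
  {r₁ : Fin (n₁ + 2) → Fin (n₁ + 2) → ℕ} {r₂ : Fin (n₂ + 2) → Fin (n₂ + 2) → ℕ} {j₁ : Fin (n₁ + 1) → Fin l}
  {j₂ : Fin (n₂ + 1) → Fin l} {s₁ : Fin (n₁ + 2) → Fin (n₁ + 2) → ℤ}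
  {s₂ : Fin (n₂ + 2) → Fin (n₂ + 2) → ℤ} (T₁ : Tb hp J n₁ r₁ j₁ s₁) (T₂ : Tb hp J n₂ r₂ j₂ s₂)
  (hsub : Sub2 D l J n₁ n₂ r₁ r₂) (hcom : Com2 D n₁ n₂ r₁ r₂)

include T₁ T₂ hcom in
theorem xc_comm {F : Type*} [Field F] {a b : Fin (n₁ + 2)} (hab : a ≠ b) {c d : Fin (n₂ + 2)} (hcd : c ≠ d) (x y : F) :
    xc hp (vec D l (r₁ a b)) x * xc hp (vec D l (r₂ c d)) y = xc hp (vec D l (r₂ c d)) y * xc hp (vec D l (r₁ a b)) x := by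
  obtain ⟨h1, h2, h3⟩ := hcom a b hab c d hcd
  have h4 := Cfsg.Agent.TitsThree.KExcBase.comm_nil (F := F) hp.inList (T₁.rlt a b hab) (T₂.rlt c d hcd) h1 h2 h3 x y
  apply Subtype.ext
  rw [Subgroup.coe_mul, Subgroup.coe_mul, coe_xc hp (T₁.rlt a b hab), coe_xc hp (T₂.rlt c d hcd)]
  exact h4

variable {K : Type u} [Field K]
  {φ₁ : Matrix.SpecialLinearGroup (Fin (n₁ + 2)) K →* ↥(D.group K)}
  {φ₂ : Matrix.SpecialLinearGroup (Fin (n₂ + 2)) K →* ↥(D.group K)}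
  (hφ₁ : ∀ a b (hab : a ≠ b) c, φ₁ (Matrix.SpecialLinearGroup.transvection hab c) =
    xc hp (vec D l (r₁ a b)) ((s₁ a b : K) * c))
  (hφ₂ : ∀ a b (hab : a ≠ b) c, φ₂ (Matrix.SpecialLinearGroup.transvection hab c) =
    xc hp (vec D l (r₂ a b)) ((s₂ a b : K) * c))

include T₁ T₂ hcom hφ₁ hφ₂ in
theorem comm_phi₂ (A : Matrix.SpecialLinearGroup (Fin (n₁ + 2)) K) (B : Matrix.SpecialLinearGroup (Fin (n₂ + 2)) K) :
    φ₁ A * φ₂ B = φ₂ B * φ₁ A := by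
  have h1 : ∀ a b (hab : a ≠ b) (x : K) (B : Matrix.SpecialLinearGroup (Fin (n₂ + 2)) K),
      xc hp (vec D l (r₁ a b)) x * φ₂ B = φ₂ B * xc hp (vec D l (r₁ a b)) x := by
    intro a b hab x B
    have h2 : (MulAut.conj (xc hp (vec D l (r₁ a b)) x)).toMonoidHom.comp φ₂ = φ₂ := by
      refine hom_ext fun c d hcd y => ?_
      change xc hp (vec D l (r₁ a b)) x * φ₂ _ * (xc hp (vec D l (r₁ a b)) x)⁻¹ = φ₂ _
      rw [hφ₂, xc_comm hp T₁ T₂ hcom hab hcd, mul_inv_cancel_right]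
    have h3 := DFunLike.congr_fun h2 B
    change xc hp (vec D l (r₁ a b)) x * φ₂ B * (xc hp (vec D l (r₁ a b)) x)⁻¹ = φ₂ B at h3
    exact mul_inv_eq_iff_eq_mul.1 h3
  have h2 : (MulAut.conj (φ₂ B)).toMonoidHom.comp φ₁ = φ₁ := by
    refine hom_ext fun a b hab y => ?_
    change φ₂ B * φ₁ _ * (φ₂ B)⁻¹ = φ₁ _
    rw [hφ₁, ← h1 a b hab, mul_inv_cancel_right]
  have h3 := DFunLike.congr_fun h2 A
  change φ₂ B * φ₁ A * (φ₂ B)⁻¹ = φ₁ A at h3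
  exact (mul_inv_eq_iff_eq_mul.1 h3).symm

include T₁ T₂ hsub hφ₁ hφ₂

theorem up₂ {x : Fin l → ℤ} (hx : x ∈ Cfsg.Agent.Nodes.StabComb.PosJ M.toCoxeterSystem hp.isCartan {k | k ∈ J}) :
    XX D l K x ≤ (UT (n₁ + 2) K).map φ₁ ⊔ (UT (n₂ + 2) K).map φ₂ := by
  have he₁ : ∀ a b, (s₁ a b : K) * (s₁ a b : K) = 1 := fun a b => by rw [← Int.cast_mul, T₁.eps, Int.cast_one]
  have he₂ : ∀ a b, (s₂ a b : K) * (s₂ a b : K) = 1 := fun a b => by rw [← Int.cast_mul, T₂.eps, Int.cast_one]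
  obtain ⟨q, hq, rfl⟩ := (isRoot_iff hp _ x).1 hx.1
  rcases hsub q hq hx.2.2 with ⟨a, b, hab, rfl, h1, h2⟩ | ⟨a, b, hab, rfl, h1, h2⟩
  · refine le_trans ?_ le_sup_left
    have hlt : a < b := by
      rcases lt_or_gt_of_ne hab with h | h
      · exact h
      · obtain ⟨k, hk⟩ := h2 h
        exact absurd (hx.2.1 k) (not_le.2 hk)
    intro y hy
    obtain ⟨c, rfl⟩ := (mem_XX hp hq y).1 hy
    refine ⟨Matrix.SpecialLinearGroup.transvection hab ((s₁ a b : K) * c), tv_mem_UT hab hlt _, ?_⟩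
    rw [hφ₁, ← mul_assoc, he₁, one_mul]
  · refine le_trans ?_ le_sup_right
    have hlt : a < b := by
      rcases lt_or_gt_of_ne hab with h | h
      · exact h
      · obtain ⟨k, hk⟩ := h2 h
        exact absurd (hx.2.1 k) (not_le.2 hk)
    intro y hy
    obtain ⟨c, rfl⟩ := (mem_XX hp hq y).1 hy
    refine ⟨Matrix.SpecialLinearGroup.transvection hab ((s₂ a b : K) * c), tv_mem_UT hab hlt _, ?_⟩
    rw [hφ₂, ← mul_assoc, he₂, one_mul]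

theorem lo₂ {x : Fin l → ℤ} (hx : x ∈ Cfsg.Agent.Nodes.StabComb.PosJ M.toCoxeterSystem hp.isCartan {k | k ∈ J}) :
    XX D l K (-x) ≤ (LT (n₁ + 2) K).map φ₁ ⊔ (LT (n₂ + 2) K).map φ₂ := by
  have he₁ : ∀ a b, (s₁ a b : K) * (s₁ a b : K) = 1 := fun a b => by rw [← Int.cast_mul, T₁.eps, Int.cast_one]
  have he₂ : ∀ a b, (s₂ a b : K) * (s₂ a b : K) = 1 := fun a b => by rw [← Int.cast_mul, T₂.eps, Int.cast_one]
  obtain ⟨q, hq, hqx⟩ := (isRoot_iff hp _ (-x)).1 hx.1.neg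
  have hx' : ∀ k, vec D l q k = - x k := fun k => by rw [hqx, Pi.neg_apply]
  have hx0 : ∀ k, 0 ≤ x k := hx.2.1
  rw [← hqx]
  rcases hsub q hq (fun k hk => by rw [hx', hx.2.2 k hk, neg_zero]) with ⟨a, b, hab, rfl, h1, h2⟩ |
    ⟨a, b, hab, rfl, h1, h2⟩
  · refine le_trans ?_ le_sup_left
    have hlt : b < a := by
      rcases lt_or_gt_of_ne hab with h | h
      · obtain ⟨k, hk⟩ := h1 h
        rw [hx'] at hk
        exact absurd hk (not_lt.2 (neg_nonpos.2 (hx0 k)))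
      · exact h
    intro y hy
    obtain ⟨c, rfl⟩ := (mem_XX hp hq y).1 hy
    refine ⟨Matrix.SpecialLinearGroup.transvection hab ((s₁ a b : K) * c), tv_mem_LT hab hlt _, ?_⟩
    rw [hφ₁, ← mul_assoc, he₁, one_mul]
  · refine le_trans ?_ le_sup_right
    have hlt : b < a := by
      rcases lt_or_gt_of_ne hab with h | h
      · obtain ⟨k, hk⟩ := h1 h
        rw [hx'] at hk
        exact absurd hk (not_lt.2 (neg_nonpos.2 (hx0 k)))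
      · exact h
    intro y hy
    obtain ⟨c, rfl⟩ := (mem_XX hp hq y).1 hy
    refine ⟨Matrix.SpecialLinearGroup.transvection hab ((s₂ a b : K) * c), tv_mem_LT hab hlt _, ?_⟩
    rw [hφ₂, ← mul_assoc, he₂, one_mul]

include hcom

theorem UJ_mem₂ {w : ↥(D.group K)} (hw : w ∈ UJ M.toCoxeterSystem hp.isCartan (XX D l K) {k | k ∈ J}) :
    ∃ U₁ ∈ UT (n₁ + 2) K, ∃ U₂ ∈ UT (n₂ + 2) K, w = φ₁ U₁ * φ₂ U₂ := by
  have h1 : UJ M.toCoxeterSystem hp.isCartan (XX D l K) {k | k ∈ J} ≤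
      (UT (n₁ + 2) K).map φ₁ ⊔ (UT (n₂ + 2) K).map φ₂ :=
    RGD.Sup_le fun x hx => up₂ hp T₁ T₂ hsub hφ₁ hφ₂ hx
  obtain ⟨a, ⟨U₁, h2, rfl⟩, b, ⟨U₂, h3, rfl⟩, rfl⟩ := sup_mem (by
    rintro _ ⟨x, -, rfl⟩ _ ⟨y, -, rfl⟩
    exact comm_phi₂ hp T₁ T₂ hcom hφ₁ hφ₂ x y) (h1 hw)
  exact ⟨U₁, h2, U₂, h3, rfl⟩

theorem UNJ_mem₂ {w : ↥(D.group K)} (hw : w ∈ UNJ M.toCoxeterSystem hp.isCartan (XX D l K) {k | k ∈ J}) :
    ∃ L₁ ∈ LT (n₁ + 2) K, ∃ L₂ ∈ LT (n₂ + 2) K, w = φ₁ L₁ * φ₂ L₂ := by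
  have h1 : UNJ M.toCoxeterSystem hp.isCartan (XX D l K) {k | k ∈ J} ≤
      (LT (n₁ + 2) K).map φ₁ ⊔ (LT (n₂ + 2) K).map φ₂ :=
    RGD.Sup_le fun x hx => by
      have := lo₂ hp T₁ T₂ hsub hφ₁ hφ₂ (x := -x) hx
      rwa [_root_.neg_neg] at this
  obtain ⟨a, ⟨L₁, h2, rfl⟩, b, ⟨L₂, h3, rfl⟩, rfl⟩ := sup_mem (by
    rintro _ ⟨x, -, rfl⟩ _ ⟨y, -, rfl⟩
    exact comm_phi₂ hp T₁ T₂ hcom hφ₁ hφ₂ x y) (h1 hw)
  exact ⟨L₁, h2, L₂, h3, rfl⟩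

end

section

variable {D : ChevalleyDatum} {l : ℕ} {M : CoxeterMatrix (Fin l)} (hp : IsType D l M) {J : List (Fin l)} {n₁ n₂ : ℕ}
  {r₁ : Fin (n₁ + 2) → Fin (n₁ + 2) → ℕ} {r₂ : Fin (n₂ + 2) → Fin (n₂ + 2) → ℕ} {j₁ : Fin (n₁ + 1) → Fin l}
  {j₂ : Fin (n₂ + 1) → Fin l} {s₁ : Fin (n₁ + 2) → Fin (n₁ + 2) → ℤ}
  {s₂ : Fin (n₂ + 2) → Fin (n₂ + 2) → ℤ} (T₁ : Tb hp J n₁ r₁ j₁ s₁) (T₂ : Tb hp J n₂ r₂ j₂ s₂)
  (hsub : Sub2 D l J n₁ n₂ r₁ r₂) (hcom : Com2 D n₁ n₂ r₁ r₂)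
  {K : Type u} [Field K] [Finite K]
  {φ₁ : Matrix.SpecialLinearGroup (Fin (n₁ + 2)) K →* ↥(D.group K)}
  {φ₂ : Matrix.SpecialLinearGroup (Fin (n₂ + 2)) K →* ↥(D.group K)}
  (hφ₁ : ∀ a b (hab : a ≠ b) c, φ₁ (Matrix.SpecialLinearGroup.transvection hab c) =
    xc hp (vec D l (r₁ a b)) ((s₁ a b : K) * c))
  (hφ₂ : ∀ a b (hab : a ≠ b) c, φ₂ (Matrix.SpecialLinearGroup.transvection hab c) =
    xc hp (vec D l (r₂ a b)) ((s₂ a b : K) * c))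
  {K' : Type} [Field K'] [Finite K'] (i : K →+* K') {E₁ : (Fin (n₁ + 2) → K') → Prop}
  {E₂ : (Fin (n₂ + 2) → K') → Prop}

include T₁ hφ₁ in
theorem exists_Bk : ∃ φ' : Matrix.SpecialLinearGroup (Fin (n₁ + 2)) K' →* ↥(D.group K'),
    Bk hp i {k | k ∈ J} n₁ r₁ j₁ φ₁ φ' (fun a b => (s₁ a b : K)) := by
  obtain ⟨φ', hφ'⟩ := T₁.hom K'
  refine ⟨φ', ?_⟩
  exact
    { simp := ⟨T₁.up, fun a => by rw [← T₁.up a]; exact T₁.neg _ _ (cs_ne a)⟩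
      rlt := T₁.rlt
      rJ := T₁.rJ
      hφ := hφ₁
      hφ' := fun a b hab c => by rw [hφ' a b hab c, map_intCast]
      ss := fun a => by rw [T₁.sym a.castSucc a.succ, ← Int.cast_mul, T₁.eps, Int.cast_one] }

include T₁ hφ₁ in
theorem phi_mem₁ (A : Matrix.SpecialLinearGroup (Fin (n₁ + 2)) K) :
    φ₁ A ∈ LJ M.toCoxeterSystem hp.isCartan (TT D K) (XX D l K) {k | k ∈ J} := by
  have h1 : (⊤ : Subgroup (Matrix.SpecialLinearGroup (Fin (n₁ + 2)) K)) ≤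
      (LJ M.toCoxeterSystem hp.isCartan (TT D K) (XX D l K) {k | k ∈ J}).comap φ₁ := by
    rw [← Cfsg.Agent.LieClassical.SLGen.closure_transvections, Subgroup.closure_le]
    rintro _ ⟨a, b, hab, c, rfl⟩
    change φ₁ _ ∈ LJ M.toCoxeterSystem hp.isCartan (TT D K) (XX D l K) {k | k ∈ J}
    rw [hφ₁]
    refine X_le_LJ (J := {k | k ∈ J}) (x := vec D l (r₁ a b)) ⟨isRoot_vec hp _ (T₁.rlt a b hab), T₁.rJ a b hab⟩ ?_
    exact (mem_XX hp (T₁.rlt a b hab) _).2 ⟨_, rfl⟩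
  exact h1 (Subgroup.mem_top A)

include T₁ T₂ hcom hφ₁ hφ₂ in
theorem nf₂ (hout : ∀ lam, E₁ lam → ∀ mu, E₂ mu → ∀ q < D.nroots, (∃ k, k ∉ J ∧ vec D l q k ≠ 0) →
      (∏ b, lam b ^ wt D j₁ q b) * ∏ b, mu b ^ wt D j₂ q b ≠ 1)
    {x : Matrix.SpecialLinearGroup (Fin (n₁ + 2)) K} {y : Matrix.SpecialLinearGroup (Fin (n₂ + 2)) K} (hx : Ev i E₁ x)
    (hy : Ev i E₂ y) :
    NF (VJ M.toCoxeterSystem hp.isCartan (XX D l K) {k | k ∈ J}) (φ₁ x * φ₂ y) ∧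
      NF (VNJ M.toCoxeterSystem hp.isCartan (XX D l K) {k | k ∈ J}) (φ₁ x * φ₂ y) := by
  obtain ⟨ch, hch⟩ := CharP.exists K'
  have := Fintype.ofFinite K'
  have : Fact ch.Prime := ⟨(CharP.char_is_prime_or_zero K' ch).resolve_right (CharP.char_ne_zero_of_finite K' ch)⟩
  obtain ⟨lam, h1, h2, h3⟩ := hx
  obtain ⟨mu, g1, g2, g3⟩ := hy
  obtain ⟨g, hg⟩ := Cfsg.Agent.H934.MF.diag_map i x.1 h2 h3
  obtain ⟨h, hh⟩ := Cfsg.Agent.H934.MF.diag_map i y.1 g2 g3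
  obtain ⟨φ₁', B₁⟩ := exists_Bk hp T₁ hφ₁ i
  obtain ⟨φ₂', B₂⟩ := exists_Bk hp T₂ hφ₂ i
  refine ((B₁.dz hp hg).mul hp (B₂.dz hp hh) (B₁.comm_range₂ hp B₂ fun a b hab c d hcd x y =>
    xc_comm hp T₁ T₂ hcom hab hcd x y)).nf hp ch fun q hq hk => ?_
  exact hout lam h1 mu g1 q hq hk

variable (hl : 0 < l) (hG : IsSimpleGroup ↥(D.group K) ∧ ¬ IsMulCommutative ↥(D.group K))
  (hM : ∀ J : Finset (Fin l), J = ∅ ∨ J = Finset.univ ∨ ∃ a ∈ J, ∃ b, b ∉ J ∧ M a b ≠ 2)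

include T₁ T₂ hsub hcom hφ₁ hφ₂ hl hG hM in
/-- **The frame for two blocks.** -/
theorem pairs_of_two {N : ℕ}
    (hout : ∀ lam, E₁ lam → ∀ mu, E₂ mu → ∀ q < D.nroots, (∃ k, k ∉ J ∧ vec D l q k ≠ 0) →
      (∏ b, lam b ^ wt D j₁ q b) * ∏ b, mu b ^ wt D j₂ q b ≠ 1)
    (hN₁ : ∀ lam, E₁ lam → ∀ a, lam a ^ N = 1) (hN₂ : ∀ mu, E₂ mu → ∀ a, mu a ^ N = 1)
    (P₁ : ∀ L ∈ LT (n₁ + 2) K, ∀ U ∈ UT (n₁ + 2) K, ∃ x y : Matrix.SpecialLinearGroup (Fin (n₁ + 2)) K,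
      L * U = x * y ∧ Ev i E₁ x ∧ Ev i E₁ y)
    (P₂ : ∀ L ∈ LT (n₂ + 2) K, ∀ U ∈ UT (n₂ + 2) K, ∃ x y : Matrix.SpecialLinearGroup (Fin (n₂ + 2)) K,
      L * U = x * y ∧ Ev i E₂ x ∧ Ev i E₂ y) (g : ↥(D.group K)) :
    ∃ a b : ↥(D.group K), g = a * b ∧ a ^ N = 1 ∧ b ^ N = 1 := by
  obtain ⟨p, hpc⟩ := CharP.exists K
  have := Fintype.ofFinite K
  have : Fact p.Prime := ⟨(CharP.char_is_prime_or_zero K p).resolve_right (CharP.char_ne_zero_of_finite K p)⟩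
  have := finite_W hp M.toCoxeterSystem
  have : Nonempty (Fin l) := ⟨⟨0, hl⟩⟩
  have hcm := comm_phi₂ hp T₁ T₂ hcom hφ₁ hφ₂
  have hpow : ∀ {x : Matrix.SpecialLinearGroup (Fin (n₁ + 2)) K} {y : Matrix.SpecialLinearGroup (Fin (n₂ + 2)) K},
      Ev i E₁ x → Ev i E₂ y → (φ₁ x * φ₂ y) ^ N = 1 := by
    intro x y hx hy
    obtain ⟨lam, h1, h2, h3⟩ := hx
    obtain ⟨mu, g1, g2, g3⟩ := hy
    have hc : Commute (φ₁ x) (φ₂ y) := hcm x y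
    rw [hc.mul_pow, ← map_pow, ← map_pow, pow_eq_one h2 h3 (hN₁ lam h1), pow_eq_one g2 g3 (hN₂ mu g1), map_one, map_one,
      mul_one]
  by_cases hg : g ∈ (RGD.B M.toCoxeterSystem hp.isCartan (TT D K) (XX D l K)).normalCore
  · rw [one_of_core hp hl hG.1 hg]
    exact ⟨1, 1, by simp, one_pow _, one_pow _⟩
  · obtain ⟨c₁, c₂, x, y, ⟨h1, h2⟩, h3⟩ := Cfsg.Agent.H928.Ore.Frame.pair (rgd (K := K) hp M.toCoxeterSystem p)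
      (G1_eq_top hp _) (coord hp) (Cfsg.Agent.Nodes.ChevChart.irr_of hM) (J := {k | k ∈ J})
      (Pr := fun c₁ c₂ : ↥(D.group K) => c₁ ^ N = 1 ∧ c₂ ^ N = 1) (fun v hv w hw => by
        obtain ⟨L₁, hL₁, L₂, hL₂, rfl⟩ := UNJ_mem₂ hp T₁ T₂ hsub hcom hφ₁ hφ₂ hv
        obtain ⟨U₁, hU₁, U₂, hU₂, rfl⟩ := UJ_mem₂ hp T₁ T₂ hsub hcom hφ₁ hφ₂ hw
        obtain ⟨x, y, e1, hx, hy⟩ := P₁ L₁ hL₁ U₁ hU₁
        obtain ⟨x', y', e2, hx', hy'⟩ := P₂ L₂ hL₂ U₂ hU₂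
        refine ⟨φ₁ x * φ₂ x', φ₁ y * φ₂ y', ?_, ⟨mul_mem (phi_mem₁ hp T₁ hφ₁ x) (phi_mem₁ hp T₂ hφ₂ x'),
          mul_mem (phi_mem₁ hp T₁ hφ₁ y) (phi_mem₁ hp T₂ hφ₂ y'), (nf₂ hp T₁ T₂ hcom hφ₁ hφ₂ i hout hx hx').2,
          (nf₂ hp T₁ T₂ hcom hφ₁ hφ₂ i hout hy hy').1⟩, hpow hx hx', hpow hy hy'⟩
        calc φ₁ L₁ * φ₂ L₂ * (φ₁ U₁ * φ₂ U₂) = φ₁ L₁ * (φ₂ L₂ * φ₁ U₁) * φ₂ U₂ := by group
          _ = φ₁ L₁ * (φ₁ U₁ * φ₂ L₂) * φ₂ U₂ := by rw [hcm U₁ L₂]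
          _ = φ₁ (L₁ * U₁) * φ₂ (L₂ * U₂) := by rw [map_mul, map_mul]; group
          _ = φ₁ x * (φ₁ y * φ₂ x') * φ₂ y' := by rw [e1, e2, map_mul, map_mul]; group
          _ = φ₁ x * (φ₂ x' * φ₁ y) * φ₂ y' := by rw [hcm y x']
          _ = _ := by group) hg
    exact ⟨_, _, h3, by rw [conj_pow, h1, mul_one, mul_inv_cancel], by rw [conj_pow, h2, mul_one, mul_inv_cancel]⟩

end

end Cfsg.Agent.H85.Pw.TwoS
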