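import Cfsg.Agent.H85.Pw.Roots
import Cfsg.Agent.H267.Ore.PTwo

/-!
# Two blocks: eigenvalues with `lam ^ m ≠ 1` on the first, `mu ^ m = 1 ≠ mu` on the second (S2465)

* `all_of_two` : the theorem;
* `ev_two` : elements of prime order `ℓ ≥ 5` of `SL_2(q)`;
* `p_two_ev` : the products `L * U` in `SL_2(q)`.
-/

set_option autoImplicit false
set_option linter.unusedSectionVars false

namespace Cfsg.Agent.H85.Pw

open CoxeterSystem Cfsg.Agent.ChevalleyStructure.CoxeterGeom Cfsg.Agent.Tits.Roots Cfsg.Agent.Tits.Core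
  Cfsg.Agent.Nodes.Reps Cfsg.Agent.Nodes.BNOf Cfsg.Agent.Nodes.RGDLib Cfsg.Agent.Nodes.Bruhat
  Cfsg.Agent.Nodes.OppDec Cfsg.Agent.Nodes.LeviDec Cfsg.Agent.Nodes.KindChev Cfsg.Agent.Nodes.ChevCls
  Cfsg.Agent.OddHalf.NI.ModelChev
  Cfsg.Agent.H162.GaussDec Cfsg.Agent.H162.GaussLevi Cfsg.Agent.H162.GaussSL Cfsg.Agent.H162.GaussReg
  Cfsg.Agent.H162.GaussMain Cfsg.Agent.H162.GaussPQ Cfsg.Agent.H162.GaussExc
open Cfsg.Lie Cfsg.Agent.ChevalleyStructure Cfsg.Agent.ChevalleyStructure.Elts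
  Cfsg.Agent.ChevalleyStructure.RootVec Cfsg.Agent.ChevalleyStructure.NPerm
  Cfsg.Agent.ChevalleyStructure.CoxeterGeomTypes Cfsg.Agent.Nodes.RGDChev Cfsg.Agent.KFacts.RgdChevCoord
open Cfsg.Agent.H928.Ore.Frame (NF LP)
open Cfsg.Agent.H85.Ore Cfsg.Agent.H78.Pw
open Polynomial (X C)

universe u

/-- the eigenvalues of the first block -/
def E₁ (m n : ℕ) {k : ℕ} {K' : Type} [Field K'] (lam : Fin k → K') : Prop :=
  (∏ a, lam a = 1) ∧ (∀ a, (orderOf (lam a)).Coprime n) ∧ ∀ a, lam a ^ m ≠ 1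

/-- the eigenvalues of the second block -/
def E₂ (m n : ℕ) {k : ℕ} {K' : Type} [Field K'] (mu : Fin k → K') : Prop :=
  (∏ a, mu a = 1) ∧ (∀ a, (orderOf (mu a)).Coprime n) ∧ ∀ a, mu a ^ m = 1 ∧ mu a ≠ 1

/-- one of the exponents is different -/
def Sgl {k : ℕ} (w : Fin k → ℤ) : Prop :=
  ∃ a, ∃ c ∈ ([-2, -1, 0, 1, 2] : List ℤ), (∀ b, b ≠ a → w b = c) ∧ (w a = c + 1 ∨ w a = c + -1)

/-- the exponents are the same -/
def Cst {k : ℕ} (w : Fin k → ℤ) : Prop := ∃ c ∈ ([-2, -1, 0, 1, 2] : List ℤ), ∀ b, w b = c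

instance {k : ℕ} (w : Fin k → ℤ) : Decidable (Sgl w) := by unfold Sgl; infer_instance

instance {k : ℕ} (w : Fin k → ℤ) : Decidable (Cst w) := by unfold Cst; infer_instance

/-- the table of the roots outside `J` -/
def Chk2 (D : ChevalleyDatum) (l : ℕ) (J : List (Fin l)) {n₁ n₂ : ℕ} (j₁ : Fin (n₁ + 1) → Fin l)
    (j₂ : Fin (n₂ + 1) → Fin l) : Prop :=
  ∀ q < D.nroots, (∃ k : Fin l, k ∉ J ∧ vec D l q k ≠ 0) → Sgl (wt D j₁ q) ∨ (Cst (wt D j₁ q) ∧ Sgl (wt D j₂ q))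

instance (D : ChevalleyDatum) (l : ℕ) (J : List (Fin l)) {n₁ n₂ : ℕ} (j₁ : Fin (n₁ + 1) → Fin l)
    (j₂ : Fin (n₂ + 1) → Fin l) : Decidable (Chk2 D l J j₁ j₂) := by
  unfold Chk2
  refine @Nat.decidableBallLT _ _ fun q _ => ?_
  infer_instance

section

variable {K' : Type} [Field K'] {k : ℕ}

theorem ne_zero_of_prod {lam : Fin k → K'} (h : ∏ a, lam a = 1) (a : Fin k) : lam a ≠ 0 := by
  intro h0
  rw [Finset.prod_eq_zero (Finset.mem_univ a) h0] at h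
  exact zero_ne_one h

theorem val_cst {lam : Fin k → K'} (h : ∏ a, lam a = 1) {w : Fin k → ℤ} (hw : Cst w) : ∏ b, lam b ^ w b = 1 := by
  obtain ⟨c, -, hc⟩ := hw
  rw [Finset.prod_congr rfl fun b _ => by rw [hc b], Finset.prod_zpow, h, one_zpow]

theorem val_sgl {lam : Fin k → K'} (h : ∏ a, lam a = 1) {w : Fin k → ℤ} (hw : Sgl w) :
    ∃ a, ∏ b, lam b ^ w b = lam a ∨ ∏ b, lam b ^ w b = (lam a)⁻¹ := by
  obtain ⟨a, c, -, h1, h2⟩ := hw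
  have key : ∀ e : ℤ, w a = c + e → ∏ b, lam b ^ w b = lam a ^ e := by
    intro e he
    have h3 : ∀ b, lam b ^ w b = lam b ^ c * (if b = a then lam a ^ e else 1) := by
      intro b
      by_cases hb : b = a
      · rw [if_pos hb, hb, he, zpow_add₀ (ne_zero_of_prod h a)]
      · rw [if_neg hb, h1 b hb, mul_one]
    rw [Finset.prod_congr rfl fun b _ => h3 b, Finset.prod_mul_distrib, Finset.prod_zpow, h, one_zpow, one_mul,
      Finset.prod_ite_eq' Finset.univ a, if_pos (Finset.mem_univ a)]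
  refine ⟨a, h2.imp (fun h3 => ?_) fun h3 => ?_⟩
  · rw [key 1 h3, zpow_one]
  · rw [key (-1) h3, zpow_neg_one]

theorem prod_pow_one {mu : Fin k → K'} {m : ℕ} (h : ∀ a, mu a ^ m = 1) (w : Fin k → ℤ) :
    (∏ b, mu b ^ w b) ^ m = 1 := by
  rw [← Finset.prod_pow]
  refine Finset.prod_eq_one fun b _ => ?_
  rw [← zpow_natCast, ← zpow_mul, mul_comm, zpow_mul, zpow_natCast, h, one_zpow]

theorem out_ne {D : ChevalleyDatum} {l : ℕ} {J : List (Fin l)} {n₁ n₂ : ℕ} {j₁ : Fin (n₁ + 1) → Fin l}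
    {j₂ : Fin (n₂ + 1) → Fin l} (hchk : Chk2 D l J j₁ j₂) {m n : ℕ} {lam : Fin (n₁ + 2) → K'} (h₁ : E₁ m n lam)
    {mu : Fin (n₂ + 2) → K'} (h₂ : E₂ m n mu) {q : ℕ} (hq : q < D.nroots) (hk : ∃ k : Fin l, k ∉ J ∧ vec D l q k ≠ 0) :
    (∏ b, lam b ^ wt D j₁ q b) * ∏ b, mu b ^ wt D j₂ q b ≠ 1 := by
  rcases hchk q hq hk with h | ⟨h, h'⟩
  · obtain ⟨a, ha⟩ := val_sgl h₁.1 h
    intro h3
    have h4 := congrArg (· ^ m) h3
    simp only [mul_pow, one_pow] at h4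
    rw [prod_pow_one (fun a => (h₂.2.2 a).1), mul_one] at h4
    rcases ha with ha | ha
    · rw [ha] at h4
      exact h₁.2.2 a h4
    · rw [ha, inv_pow, inv_eq_one] at h4
      exact h₁.2.2 a h4
  · rw [val_cst h₁.1 h, one_mul]
    obtain ⟨a, ha⟩ := val_sgl h₂.1 h'
    rcases ha with ha | ha
    · rw [ha]
      exact (h₂.2.2 a).2
    · rw [ha, ne_eq, inv_eq_one]
      exact (h₂.2.2 a).2

/-- the product of all orders prime to `n` -/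
noncomputable def NN (K' : Type) [Field K'] [Fintype K'] [DecidableEq K'] (n : ℕ) : ℕ :=
  ∏ z : K'ˣ, if (orderOf z).Coprime n then orderOf z else 1

theorem NN_coprime [Fintype K'] [DecidableEq K'] (n : ℕ) : (NN K' n).Coprime n := by
  refine Nat.Coprime.prod_left fun z _ => ?_
  by_cases h : (orderOf z).Coprime n
  · rw [if_pos h]; exact h
  · rw [if_neg h]; exact Nat.coprime_one_left n

theorem pow_NN [Fintype K'] [DecidableEq K'] {n : ℕ} {lam : Fin k → K'} (h : ∏ a, lam a = 1) {a : Fin k}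
    (ha : (orderOf (lam a)).Coprime n) : lam a ^ NN K' n = 1 := by
  have h0 := ne_zero_of_prod h a
  have h1 : orderOf (lam a) = orderOf (Units.mk0 (lam a) h0) := by rw [← orderOf_units, Units.val_mk0]
  refine orderOf_dvd_iff_pow_eq_one.1 ?_
  have h2 : (if (orderOf (Units.mk0 (lam a) h0)).Coprime n then orderOf (Units.mk0 (lam a) h0) else 1) ∣ NN K' n :=
    Finset.dvd_prod_of_mem (fun z : K'ˣ => if (orderOf z).Coprime n then orderOf z else 1)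
      (Finset.mem_univ (Units.mk0 (lam a) h0))
  rw [← h1, if_pos ha] at h2
  exact h2

end

section

variable {D : ChevalleyDatum} {l : ℕ} {M : CoxeterMatrix (Fin l)} (hp : IsType D l M) {J : List (Fin l)} {n₁ n₂ : ℕ}
  {r₁ : Fin (n₁ + 2) → Fin (n₁ + 2) → ℕ} {r₂ : Fin (n₂ + 2) → Fin (n₂ + 2) → ℕ} {j₁ : Fin (n₁ + 1) → Fin l}
  {j₂ : Fin (n₂ + 1) → Fin l} {ε₁ ε₂ : ℤ} (T₁ : Tb hp J n₁ r₁ j₁ ε₁) (T₂ : Tb hp J n₂ r₂ j₂ ε₂)
  (hsub : Sub2 D l J n₁ n₂ r₁ r₂) (hcom : Com2 D n₁ n₂ r₁ r₂) (hchk : Chk2 D l J j₁ j₂)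
  {K : Type u} [Field K] [Finite K] {K' : Type} [Field K'] [Finite K'] (i : K →+* K')
  {φ₁ : Matrix.SpecialLinearGroup (Fin (n₁ + 2)) K →* ↥(D.group K)}
  {φ₂ : Matrix.SpecialLinearGroup (Fin (n₂ + 2)) K →* ↥(D.group K)}
  (hφ₁ : ∀ a b (hab : a ≠ b) c, φ₁ (Matrix.SpecialLinearGroup.transvection hab c) =
    xc hp (vec D l (r₁ a b)) ((ε₁ : K) * c))
  (hφ₂ : ∀ a b (hab : a ≠ b) c, φ₂ (Matrix.SpecialLinearGroup.transvection hab c) =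
    xc hp (vec D l (r₂ a b)) ((ε₂ : K) * c))
  (hl : 0 < l) (hG : IsSimpleGroup ↥(D.group K) ∧ ¬ IsMulCommutative ↥(D.group K))
  (hM : ∀ J : Finset (Fin l), J = ∅ ∨ J = Finset.univ ∨ ∃ a ∈ J, ∃ b, b ∉ J ∧ M a b ≠ 2)

include T₁ T₂ hsub hcom hchk hφ₁ hφ₂ hl hG hM in
/-- **Products of two elements of order prime to `n` from two blocks.** -/
theorem all_of_two {m n : ℕ}
    (P₁ : ∀ L ∈ LT (n₁ + 2) K, ∀ U ∈ UT (n₁ + 2) K, ∃ x y : Matrix.SpecialLinearGroup (Fin (n₁ + 2)) K,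
      L * U = x * y ∧ Ev i (E₁ m n) x ∧ Ev i (E₁ m n) y)
    (P₂ : ∀ L ∈ LT (n₂ + 2) K, ∀ U ∈ UT (n₂ + 2) K, ∃ x y : Matrix.SpecialLinearGroup (Fin (n₂ + 2)) K,
      L * U = x * y ∧ Ev i (E₂ m n) x ∧ Ev i (E₂ m n) y) : All n ↥(D.group K) := by
  classical
  have := Fintype.ofFinite K'
  exact all_of_pairs (NN_coprime (K' := K') n) (pairs_of_two hp T₁ T₂ hsub hcom hφ₁ hφ₂ i hl hG hM
    (fun lam h₁ mu h₂ q hq hk => out_ne hchk h₁ h₂ hq hk) (fun lam h a => pow_NN h.1 (h.2.1 a))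
    (fun mu h a => pow_NN h.1 (h.2.1 a)) P₁ P₂)

end

/-! ### `SL_2(q)` -/

section

variable {K : Type u} [Field K] [Finite K] {K' : Type} [Field K'] [Finite K'] [Algebra K K'] {d : ℕ}

theorem ev_two (hK' : Nat.card K' = Nat.card K ^ d) (hd : 2 ∣ d) {ℓ m n : ℕ} (hℓ : ℓ.Prime) (h5 : 5 ≤ ℓ)
    (hℓq : ℓ ∣ Nat.card K ^ 2 - 1) (hℓm : ℓ ∣ m) (hℓn : ℓ.Coprime n) {x : Matrix.SpecialLinearGroup (Fin 2) K}
    (hx : orderOf x = ℓ) : Ev (algebraMap K K') (E₂ m n) x := by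
  have h0 := Cfsg.Agent.H267.Ore.PTwo.cast_ne_zero (K := K) hℓ hℓq
  obtain ⟨h1, h2, -, -⟩ := Cfsg.Agent.H267.Ore.PTwo.tc_facts hℓ h5 h0 hx
  have hc : x.1.charpoly = X ^ 2 - C (Cfsg.Agent.H267.Ore.PTwo.tc x) * X + C 1 := by
    rw [Matrix.charpoly_fin_two, x.2, Matrix.trace_fin_two]
    rfl
  refine ev_of_dvd hK' (by rw [hc]; exact dvd_quad hd h1 h2) fun mu e1 e2 e3 => ?_
  have hp : ∀ a, mu a ^ ℓ = 1 := fun a => root_pow (by rw [← hx, pow_orderOf_eq_one]) (e3 a)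
  refine ⟨e1, fun a => ?_, fun a => ⟨?_, ?_⟩⟩
  · exact Nat.Coprime.of_dvd_left (orderOf_dvd_of_pow_eq_one (hp a)) hℓn
  · obtain ⟨c, rfl⟩ := hℓm
    rw [pow_mul, hp a, one_pow]
  · intro ha
    rw [Fin.prod_univ_two] at e1
    have h3 : mu 0 = mu 1 := by
      fin_cases a
      · have ha' : mu 0 = 1 := ha
        rw [ha', one_mul] at e1
        rw [ha', e1]
      · have ha' : mu 1 = 1 := ha
        rw [ha', mul_one] at e1
        rw [ha', e1]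
    exact absurd (e2 h3) (by decide)

theorem p_two_ev (hK' : Nat.card K' = Nat.card K ^ d) (hd : 2 ∣ d) {ℓ m n : ℕ} (hℓ : ℓ.Prime) (h5 : 5 ≤ ℓ)
    (hℓq : ℓ ∣ Nat.card K ^ 2 - 1) (hℓm : ℓ ∣ m) (hℓn : ℓ.Coprime n) :
    ∀ L ∈ LT 2 K, ∀ U ∈ UT 2 K, ∃ x y : Matrix.SpecialLinearGroup (Fin 2) K,
      L * U = x * y ∧ Ev (algebraMap K K') (E₂ m n) x ∧ Ev (algebraMap K K') (E₂ m n) y := by
  intro L hL U hU
  obtain ⟨x, y, h1, h2, h3⟩ := Cfsg.Agent.H267.Ore.PTwo.p_two_prime hℓ h5 hℓq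
    (Cfsg.Agent.H267.Ore.PTwo.nonscalar_LU hL hU)
  exact ⟨x, y, h1, ev_two hK' hd hℓ h5 hℓq hℓm hℓn h2, ev_two hK' hd hℓ h5 hℓq hℓm hℓn h3⟩

end

end Cfsg.Agent.H85.Pw
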