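import Cfsg.Agent.H85.Pw.TwoS
import Cfsg.Agent.H85.Pw.Spec
import Cfsg.Agent.H85.Pw.Ef
import Cfsg.Agent.H194.Pw.Six

/-!
# `E_7(3)`: the blocks `A_4`, `A_2` (S2465)

* `T₁`, `T₂`, `sub`, `com`, `chk` : the tables, `J = {0, 2, 3, 1, 5, 6}`;
* `pairs_of` : every element of `E_7(3)` is `a b`, `a ^ 1573 = b ^ 1573 = 1`, from products in `SL_5(3)`, `SL_3(3)`.
-/

set_option autoImplicit false
set_option linter.unusedSectionVars false

namespace Cfsg.Agent.H85.Pw.ESevenThree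

open CoxeterSystem Cfsg.Agent.ChevalleyStructure.CoxeterGeom Cfsg.Agent.Tits.Roots Cfsg.Agent.Tits.Core
  Cfsg.Agent.Nodes.Reps Cfsg.Agent.Nodes.BNOf Cfsg.Agent.Nodes.RGDLib Cfsg.Agent.Nodes.Bruhat
  Cfsg.Agent.Nodes.OppDec Cfsg.Agent.Nodes.LeviDec Cfsg.Agent.Nodes.KindChev Cfsg.Agent.Nodes.ChevCls
  Cfsg.Agent.OddHalf.NI.ModelChev
  Cfsg.Agent.H162.GaussDec Cfsg.Agent.H162.GaussLevi Cfsg.Agent.H162.GaussSL Cfsg.Agent.H162.GaussReg
  Cfsg.Agent.H162.GaussMain Cfsg.Agent.H162.GaussPQ Cfsg.Agent.H162.GaussExc Cfsg.Agent.H162.GaussExcMain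
open Cfsg.Lie Cfsg.Agent.ChevalleyStructure Cfsg.Agent.ChevalleyStructure.Elts
  Cfsg.Agent.ChevalleyStructure.RootVec Cfsg.Agent.ChevalleyStructure.NPerm
  Cfsg.Agent.ChevalleyStructure.CoxeterGeomTypes Cfsg.Agent.Nodes.RGDChev Cfsg.Agent.KFacts.RgdChevCoord
open Cfsg.Agent.TitsThree.KExcRT
open Cfsg.Agent.H85.Ore Cfsg.Agent.H78.Pw Cfsg.Agent.H85.Pw Cfsg.Agent.H85.Pw.TwoS
open Cfsg.Agent.H194.Pw (exists_hom_S)
open Polynomial (X C)

universe u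

/-- the type -/
theorem h7 : IsType chevE7 7 CoxeterMatrix.E₇ := Cfsg.Agent.Nodes.KindE.isType7

/-- the nodes -/
def J : List (Fin 7) := [0, 1, 2, 3, 5, 6]

/-- the roots of the block `A_4` -/
def rA : Fin 5 → Fin 5 → ℕ :=
  ![![0, 93, 94, 95, 99], ![32, 0, 73, 74, 83], ![31, 52, 0, 69, 79], ![30, 51, 56, 0, 78], ![26, 42, 46, 47, 0]]

/-- the signs of the block `A_4` -/
def sA : Fin 5 → Fin 5 → ℤ :=
  ![![-1, -1, -1, -1, -1], ![-1, -1, -1, -1, -1], ![-1, -1, -1, -1, 1], ![-1, -1, -1, -1, -1], ![-1, -1, 1, -1, -1]]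

/-- the nodes of the block `A_4` -/
def jA : Fin 4 → Fin 7 := ![0, 2, 3, 1]

/-- the roots of the block `A_2` -/
def rB : Fin 3 → Fin 3 → ℕ := ![![0, 64, 65], ![61, 0, 63], ![60, 62, 0]]

/-- the signs of the block `A_2` -/
def sB : Fin 3 → Fin 3 → ℤ := fun _ _ => -1

/-- the nodes of the block `A_2` -/
def jB : Fin 2 → Fin 7 := ![5, 6]

theorem rtA : RTa chevE7 rA ∧ RTb chevE7 rA sA ∧ RTc chevE7 rA ∧ RTd sA ∧ (∀ i j, sA j i = sA i j) ∧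
    ∀ i j, i ≠ j → rA j i = chevE7.neg (rA i j) := by decide +kernel

theorem rtB : RTa chevE7 rB ∧ RTb chevE7 rB sB ∧ RTc chevE7 rB ∧ RTd sB ∧ (∀ i j, sB j i = sB i j) ∧
    ∀ i j, i ≠ j → rB j i = chevE7.neg (rB i j) := by decide +kernel

theorem aA : (∀ a : Fin 4, rA a.castSucc a.succ = chevE7.simple (jA a)) ∧
    ∀ a b, a ≠ b → ∀ k, k ∉ J → vec chevE7 7 (rA a b) k = 0 := by decide +kernel

theorem aB : (∀ a : Fin 2, rB a.castSucc a.succ = chevE7.simple (jB a)) ∧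
    ∀ a b, a ≠ b → ∀ k, k ∉ J → vec chevE7 7 (rB a b) k = 0 := by decide +kernel

theorem sub : Sub2 chevE7 7 J 3 1 rA rB := by decide +kernel

theorem com : Com2 chevE7 3 1 rA rB := by decide +kernel

/-- two of the exponents are different -/
def Dbl {k : ℕ} (w : Fin k → ℤ) : Prop :=
  ∃ a b, a ≠ b ∧ ∃ c ∈ ([-2, -1, 0, 1, 2] : List ℤ), (∀ d, d ≠ a → d ≠ b → w d = c) ∧
    ((w a = c + 1 ∧ w b = c + 1) ∨ (w a = c + -1 ∧ w b = c + -1))

instance {k : ℕ} (w : Fin k → ℤ) : Decidable (Dbl w) := by unfold Dbl; infer_instance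

/-- the table of the roots outside `J` -/
def Chk : Prop :=
  ∀ q < chevE7.nroots, (∃ k : Fin 7, k ∉ J ∧ vec chevE7 7 q k ≠ 0) → Sgl (wt chevE7 jA q) ∨ Dbl (wt chevE7 jA q)

instance : Decidable Chk := by
  unfold Chk
  refine @Nat.decidableBallLT _ _ fun q _ => ?_
  infer_instance

theorem chk : Chk := by decide +kernel

theorem exists_A (K : Type u) [Field K] : ∃ φ : Matrix.SpecialLinearGroup (Fin (3 + 2)) K →* ↥(chevE7.group K),
    ∀ a b (hab : a ≠ b) c, φ (Matrix.SpecialLinearGroup.transvection hab c) =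
      xc h7 (vec chevE7 7 (rA a b)) ((sA a b : K) * c) :=
  exists_hom_S h7 rtA.1 rtA.2.1 rtA.2.2.1 rtA.2.2.2.1 rtA.2.2.2.2.1 rtA.2.2.2.2.2

theorem exists_B (K : Type u) [Field K] : ∃ φ : Matrix.SpecialLinearGroup (Fin (1 + 2)) K →* ↥(chevE7.group K),
    ∀ a b (hab : a ≠ b) c, φ (Matrix.SpecialLinearGroup.transvection hab c) =
      xc h7 (vec chevE7 7 (rB a b)) ((sB a b : K) * c) :=
  exists_hom_S h7 rtB.1 rtB.2.1 rtB.2.2.1 rtB.2.2.2.1 rtB.2.2.2.2.1 rtB.2.2.2.2.2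

theorem T₁ : TwoS.Tb h7 J 3 rA jA sA where
  eps := rtA.2.2.2.1
  sym := rtA.2.2.2.2.1
  up := aA.1
  neg := rtA.2.2.2.2.2
  rlt := rtA.1
  rJ := aA.2
  hom := fun F _ => exists_A F

theorem T₂ : TwoS.Tb h7 J 1 rB jB sB where
  eps := rtB.2.2.2.1
  sym := rtB.2.2.2.2.1
  up := aB.1
  neg := rtB.2.2.2.2.2
  rlt := rtB.1
  rJ := aB.2
  hom := fun F _ => exists_B F

/-! ### The eigenvalues -/

/-- the eigenvalues of the block `A_4` -/
def Ea (N : ℕ) {K' : Type} [Field K'] (lam : Fin 5 → K') : Prop :=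
  (∏ a, lam a = 1) ∧ (∀ a, lam a ^ N = 1) ∧ (∀ a, lam a ≠ 1) ∧ ∀ a b, a ≠ b → lam a * lam b ≠ 1

/-- the eigenvalues of the block `A_2` -/
def Eb (N : ℕ) {K' : Type} [Field K'] (mu : Fin 3 → K') : Prop := ∀ a, mu a ^ N = 1

section

variable {K' : Type} [Field K']

theorem val_dbl {k : ℕ} {lam : Fin k → K'} (h : ∏ a, lam a = 1) {w : Fin k → ℤ} (hw : Dbl w) :
    ∃ a b, a ≠ b ∧ (∏ d, lam d ^ w d = lam a * lam b ∨ ∏ d, lam d ^ w d = (lam a * lam b)⁻¹) := by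
  obtain ⟨a, b, hab, c, -, h1, h2⟩ := hw
  have key : ∀ e : ℤ, w a = c + e → w b = c + e → ∏ d, lam d ^ w d = (lam a * lam b) ^ e := by
    intro e ha hb
    have h3 : ∀ d, lam d ^ w d = lam d ^ c * ((if d = a then lam a ^ e else 1) * (if d = b then lam b ^ e else 1)) := by
      intro d
      by_cases hd : d = a
      · have hdb : d ≠ b := fun h => hab (hd.symm.trans h)
        rw [if_pos hd, if_neg hdb, mul_one, hd, ha, zpow_add₀ (ne_zero_of_prod h a)]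
      · by_cases hd' : d = b
        · rw [if_neg hd, if_pos hd', one_mul, hd', hb, zpow_add₀ (ne_zero_of_prod h b)]
        · rw [if_neg hd, if_neg hd', h1 d hd hd', mul_one, mul_one]
    rw [Finset.prod_congr rfl fun d _ => h3 d, Finset.prod_mul_distrib, Finset.prod_zpow, h, one_zpow, one_mul,
      Finset.prod_mul_distrib, Finset.prod_ite_eq' Finset.univ a, if_pos (Finset.mem_univ a),
      Finset.prod_ite_eq' Finset.univ b, if_pos (Finset.mem_univ b), mul_zpow]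
  refine ⟨a, b, hab, h2.imp (fun h3 => ?_) fun h3 => ?_⟩
  · rw [key 1 h3.1 h3.2, zpow_one]
  · rw [key (-1) h3.1 h3.2, zpow_neg_one]

theorem eq_one_of_coprime {N₁ N₂ : ℕ} (hc : N₁.Coprime N₂) {v : K'} (h1 : v ^ N₁ = 1) (h2 : v ^ N₂ = 1) : v = 1 := by
  have h3 := Nat.dvd_gcd (orderOf_dvd_of_pow_eq_one h1) (orderOf_dvd_of_pow_eq_one h2)
  rw [hc.gcd_eq_one, Nat.dvd_one] at h3
  exact orderOf_eq_one_iff.1 h3

theorem out_ne {N₁ N₂ : ℕ} (hc : N₁.Coprime N₂) {lam : Fin 5 → K'} (h₁ : Ea N₁ lam) {mu : Fin 3 → K'} (h₂ : Eb N₂ mu)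
    {q : ℕ} (hq : q < chevE7.nroots) (hk : ∃ k : Fin 7, k ∉ J ∧ vec chevE7 7 q k ≠ 0) :
    (∏ b, lam b ^ wt chevE7 jA q b) * ∏ b, mu b ^ wt chevE7 jB q b ≠ 1 := by
  intro h3
  have h4 := congrArg (· ^ N₂) h3
  simp only [mul_pow, one_pow] at h4
  rw [prod_pow_one h₂, mul_one] at h4
  have h5 : (∏ b, lam b ^ wt chevE7 jA q b) ^ N₁ = 1 := prod_pow_one h₁.2.1 _
  have h6 := eq_one_of_coprime hc h5 h4
  rcases chk q hq hk with h | h
  · obtain ⟨a, ha | ha⟩ := val_sgl h₁.1 h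
    · exact h₁.2.2.1 a (ha.symm.trans h6)
    · exact h₁.2.2.1 a (inv_eq_one.1 (ha.symm.trans h6))
  · obtain ⟨a, b, hab, ha | ha⟩ := val_dbl h₁.1 h
    · exact h₁.2.2.2 a b hab (ha.symm.trans h6)
    · exact h₁.2.2.2 a b hab (inv_eq_one.1 (ha.symm.trans h6))

/-- powers of the Frobenius map on an element of `F_{q^5}` -/
theorem two_ne {q : ℕ} {z : K'} (h5 : z ^ (q ^ 5) = z) (hinj : Function.Injective fun a : Fin 5 => z ^ (q ^ (a : ℕ))) :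
    (∀ a : Fin 5, z ^ (q ^ (a : ℕ)) ≠ 1) ∧ ∀ a b : Fin 5, a ≠ b → z ^ (q ^ (a : ℕ)) * z ^ (q ^ (b : ℕ)) ≠ 1 := by
  have hadd : ∀ i : ℕ, z ^ (q ^ (i + 5)) = z ^ (q ^ i) := by
    intro i
    rw [add_comm, pow_add, pow_mul, h5]
  have hmod : ∀ i : ℕ, z ^ (q ^ i) = z ^ (q ^ (i % 5)) := by
    have h : ∀ k b : ℕ, z ^ (q ^ (b + 5 * k)) = z ^ (q ^ b) := by
      intro k
      induction k with
      | zero => intro b; rfl
      | succ k ih => intro b; rw [Nat.mul_succ, ← add_assoc, hadd, ih]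
    intro i
    conv_lhs => rw [← Nat.mod_add_div i 5]
    rw [h]
  have hiff : ∀ i j : ℕ, z ^ (q ^ i) = z ^ (q ^ j) → i % 5 = j % 5 := by
    intro i j h
    rw [hmod i, hmod j] at h
    exact congrArg Fin.val (@hinj ⟨i % 5, Nat.mod_lt _ (by norm_num)⟩ ⟨j % 5, Nat.mod_lt _ (by norm_num)⟩ h)
  have hpow : ∀ i j : ℕ, (z ^ (q ^ i)) ^ (q ^ j) = z ^ (q ^ (i + j)) := fun i j => by rw [← pow_mul, ← pow_add]
  refine ⟨fun a h => ?_, fun a b hab h => ?_⟩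
  · have h1 := congrArg (· ^ (q ^ 1)) h
    simp only [one_pow] at h1
    rw [hpow, ← h] at h1
    have := hiff _ _ h1
    omega
  · have ha := a.2
    have hb := b.2
    have h1 := congrArg (· ^ (q ^ ((b : ℕ) + 5 - a))) h
    simp only [one_pow, mul_pow] at h1
    rw [hpow, hpow] at h1
    have e1 : (a : ℕ) + ((b : ℕ) + 5 - a) = b + 5 := by omega
    rw [e1, hadd, ← h, mul_comm (z ^ q ^ (a : ℕ))] at h1
    have h0 : z ^ (q ^ (b : ℕ)) ≠ 0 := right_ne_zero_of_mul (a := z ^ (q ^ (a : ℕ))) (by rw [h]; exact one_ne_zero)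
    have h2 := hiff _ _ (mul_left_cancel₀ h0 h1)
    exact hab (Fin.ext (by omega))

end

section

variable {K : Type u} [Field K] [Finite K]

/-- `a ^ (N₁ N₂) = 1` -/
theorem pairs_of {N₁ N₂ : ℕ} (hc : N₁.Coprime N₂)
    (P5 : ∀ L ∈ LT 5 K, ∀ U ∈ UT 5 K, ∃ x y : Matrix.SpecialLinearGroup (Fin 5) K, L * U = x * y ∧
      Irreducible x.1.charpoly ∧ Irreducible y.1.charpoly ∧ x ^ N₁ = 1 ∧ y ^ N₁ = 1)
    (P3 : ∀ L ∈ LT 3 K, ∀ U ∈ UT 3 K, ∃ x y : Matrix.SpecialLinearGroup (Fin 3) K, L * U = x * y ∧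
      Irreducible x.1.charpoly ∧ Irreducible y.1.charpoly ∧ x ^ N₂ = 1 ∧ y ^ N₂ = 1) (g : ↥(chevE7.group K)) :
    ∃ a b : ↥(chevE7.group K), g = a * b ∧ a ^ (N₁ * N₂) = 1 ∧ b ^ (N₁ * N₂) = 1 := by
  obtain ⟨p, hpc⟩ := CharP.exists K
  have hpp : Fact p.Prime := ⟨(CharP.char_is_prime_or_zero K p).resolve_right (CharP.char_ne_zero_of_finite K p)⟩
  have hK' : Nat.card (FiniteField.Extension K p 15) = Nat.card K ^ 15 := FiniteField.natCard_extension K p 15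
  obtain ⟨φ₁, hφ₁⟩ := exists_A K
  obtain ⟨φ₂, hφ₂⟩ := exists_B K
  have k1 : ∀ x : Matrix.SpecialLinearGroup (Fin 5) K, Irreducible x.1.charpoly → x ^ N₁ = 1 →
      Ev (algebraMap K (FiniteField.Extension K p 15)) (Ea N₁) x := by
    intro x hx hN
    refine ev_spec hK' (by norm_num) (by norm_num) hx fun z h1 h2 h3 h4 => ?_
    obtain ⟨h5, h6⟩ := two_ne h1 h2
    refine ⟨h3, fun a => ?_, h5, h6⟩
    rw [← pow_mul, mul_comm, pow_mul, h4 _ hN, one_pow]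
  have k2 : ∀ x : Matrix.SpecialLinearGroup (Fin 3) K, Irreducible x.1.charpoly → x ^ N₂ = 1 →
      Ev (algebraMap K (FiniteField.Extension K p 15)) (Eb N₂) x := by
    intro x hx hN
    refine ev_spec hK' (by norm_num) (by norm_num) hx fun z h1 h2 h3 h4 a => ?_
    rw [← pow_mul, mul_comm, pow_mul, h4 _ hN, one_pow]
  refine TwoS.pairs_of_two h7 T₁ T₂ sub com hφ₁ hφ₂ (algebraMap K (FiniteField.Extension K p 15)) (by norm_num)
    (Cfsg.Agent.S1054.result chevE7 (by simp)) Cfsg.Agent.Nodes.ChevChart.irr7 (E₁ := Ea N₁) (E₂ := Eb N₂)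
    (fun lam h₁ mu h₂ q hq hk => out_ne hc h₁ h₂ hq hk) (fun lam h a => ?_) (fun mu h a => ?_) ?_ ?_ g
  · rw [pow_mul, h.2.1, one_pow]
  · rw [mul_comm, pow_mul, h, one_pow]
  · intro L hL U hU
    obtain ⟨x, y, h1, h2, h3, h4, h5⟩ := P5 L hL U hU
    exact ⟨x, y, h1, k1 x h2 h4, k1 y h3 h5⟩
  · intro L hL U hU
    obtain ⟨x, y, h1, h2, h3, h4, h5⟩ := P3 L hL U hU
    exact ⟨x, y, h1, k2 x h2 h4, k2 y h3 h5⟩

/-- `All n` -/
theorem all_of {N₁ N₂ n : ℕ} (hc : N₁.Coprime N₂) (hn : (N₁ * N₂).Coprime n)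
    (P5 : ∀ L ∈ LT 5 K, ∀ U ∈ UT 5 K, ∃ x y : Matrix.SpecialLinearGroup (Fin 5) K, L * U = x * y ∧
      Irreducible x.1.charpoly ∧ Irreducible y.1.charpoly ∧ x ^ N₁ = 1 ∧ y ^ N₁ = 1)
    (P3 : ∀ L ∈ LT 3 K, ∀ U ∈ UT 3 K, ∃ x y : Matrix.SpecialLinearGroup (Fin 3) K, L * U = x * y ∧
      Irreducible x.1.charpoly ∧ Irreducible y.1.charpoly ∧ x ^ N₂ = 1 ∧ y ^ N₂ = 1) : All n ↥(chevE7.group K) :=
  all_of_pairs hn (pairs_of hc P5 P3)

end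

end Cfsg.Agent.H85.Pw.ESevenThree
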