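import Cfsg.Agent.H85.Pw.Ef
import Cfsg.Agent.H144.OreF4.Main

/-!
# `F_4(q)`: the blocks `A_2` (long), `A_1` (short) (S2465)

* `T₁`, `T₂`, `sub`, `com`, `chk` : the tables, `J = {3, 2, 0}`;
* `all_F4_of` : `All n (F_4(q))` from products in `SL_3(q)`, `SL_2(q)`.
-/

set_option autoImplicit false
set_option linter.unusedSectionVars false

namespace Cfsg.Agent.H85.Pw.FFour

open Cfsg.Agent.FixBN.FieldRGD (uu vv)

open CoxeterSystem Cfsg.Agent.ChevalleyStructure.CoxeterGeom Cfsg.Agent.Tits.Roots Cfsg.Agent.Tits.Core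
  Cfsg.Agent.Nodes.Reps Cfsg.Agent.Nodes.BNOf Cfsg.Agent.Nodes.RGDLib Cfsg.Agent.Nodes.Bruhat
  Cfsg.Agent.Nodes.OppDec Cfsg.Agent.Nodes.LeviDec Cfsg.Agent.Nodes.KindChev Cfsg.Agent.Nodes.ChevCls
  Cfsg.Agent.OddHalf.NI.ModelChev
  Cfsg.Agent.H162.GaussDec Cfsg.Agent.H162.GaussLevi Cfsg.Agent.H162.GaussSL Cfsg.Agent.H162.GaussReg
  Cfsg.Agent.H162.GaussMain Cfsg.Agent.H162.GaussPQ Cfsg.Agent.H162.GaussExc Cfsg.Agent.H162.GaussExcMain
open Cfsg.Lie Cfsg.Agent.ChevalleyStructure Cfsg.Agent.ChevalleyStructure.Elts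
  Cfsg.Agent.ChevalleyStructure.RootVec Cfsg.Agent.ChevalleyStructure.NPerm
  Cfsg.Agent.ChevalleyStructure.CoxeterGeomTypes Cfsg.Agent.Nodes.RGDChev Cfsg.Agent.KFacts.RgdChevCoord
open Cfsg.Agent.H85.Ore Cfsg.Agent.H78.Pw Cfsg.Agent.H85.Pw
open Cfsg.Agent.H144.OreF4 (hF rL jL rtL)
open Polynomial (X C)

universe u

/-- the nodes -/
def JF : List (Fin 4) := [3, 2, 0]

/-- the roots of the block of the short node -/
def rS : Fin 2 → Fin 2 → ℕ := ![![0, 33], ![14, 0]]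

/-- the short node -/
def jS : Fin 1 → Fin 4 := ![0]

theorem aL : (∀ a : Fin 2, rL a.castSucc a.succ = chevF4.simple (jL a)) ∧ (∀ a b, a ≠ b → rL a b < chevF4.nroots) ∧
    ∀ a b, a ≠ b → ∀ k, k ∉ JF → vec chevF4 4 (rL a b) k = 0 := by decide +kernel

theorem aS : (∀ a : Fin 1, rS a.castSucc a.succ = chevF4.simple (jS a)) ∧ (∀ a b, a ≠ b → rS a b < chevF4.nroots) ∧
    (∀ a b, a ≠ b → ∀ k, k ∉ JF → vec chevF4 4 (rS a b) k = 0) ∧ ∀ a b, a ≠ b → rS b a = chevF4.neg (rS a b) := by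
  decide +kernel

theorem sub : Sub2 chevF4 4 JF 1 0 rL rS := by decide +kernel

theorem com : Com2 chevF4 1 0 rL rS := by decide +kernel

theorem chk : Chk2 chevF4 4 JF jL jS := by decide +kernel

theorem exists_L (K : Type u) [Field K] : ∃ φ : Matrix.SpecialLinearGroup (Fin (1 + 2)) K →* ↥(chevF4.group K),
    ∀ a b (hab : a ≠ b) c, φ (Matrix.SpecialLinearGroup.transvection hab c) =
      xc hF (vec chevF4 4 (rL a b)) (((1 : ℤ) : K) * c) :=
  exists_hom_D hF (K := K) (ε := 1) (by norm_num) rtL.1 rtL.2.1 rtL.2.2.1 rtL.2.2.2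

theorem exists_S (K : Type u) [Field K] : ∃ φ : Matrix.SpecialLinearGroup (Fin (0 + 2)) K →* ↥(chevF4.group K),
    ∀ a b (hab : a ≠ b) c, φ (Matrix.SpecialLinearGroup.transvection hab c) =
      xc hF (vec chevF4 4 (rS a b)) (((1 : ℤ) : K) * c) := by
  have h33 : 33 < chevF4.nroots := by decide +kernel
  have hn : chevF4.neg 33 = 14 := by decide +kernel
  obtain ⟨φ, h1, h2, -, -, -⟩ := exists_sl hF (K := K) h33
  refine ⟨φ, ?_⟩
  intro a b hab c
  rw [Int.cast_one, one_mul]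
  have e1 : ∀ c : K, Matrix.SpecialLinearGroup.transvection (show (0 : Fin 2) ≠ 1 by decide) c = uu c := by
    intro c
    apply Subtype.ext
    ext i j
    fin_cases i <;> fin_cases j <;> simp [Matrix.SpecialLinearGroup.transvection, Matrix.transvection, uu]
  have e2 : ∀ c : K, Matrix.SpecialLinearGroup.transvection (show (1 : Fin 2) ≠ 0 by decide) c = vv c := by
    intro c
    apply Subtype.ext
    ext i j
    fin_cases i <;> fin_cases j <;> simp [Matrix.SpecialLinearGroup.transvection, Matrix.transvection, vv]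
  have e3 : vec chevF4 4 14 = - vec chevF4 4 33 := by
    rw [← vec_neg hF h33, hn]
  fin_cases a <;> fin_cases b
  · exact absurd rfl hab
  · exact (congrArg φ (e1 c)).trans (h1 c)
  · refine (congrArg φ (e2 c)).trans ((h2 c).trans ?_)
    rw [← e3]
    rfl
  · exact absurd rfl hab

theorem T₁ : Tb hF JF 1 rL jL 1 where
  eps := by norm_num
  up := aL.1
  neg := rtL.2.2.2
  rlt := aL.2.1
  rJ := aL.2.2
  hom := fun F _ => exists_L F

theorem T₂ : Tb hF JF 0 rS jS 1 where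
  eps := by norm_num
  up := aS.1
  neg := aS.2.2.2
  rlt := aS.2.1
  rJ := aS.2.2.1
  hom := fun F _ => exists_S F

theorem all_F4_of {K : Type u} [Field K] [Finite K] {K' : Type} [Field K'] [Finite K'] (i : K →+* K') {m n : ℕ}
    (P₁ : ∀ L ∈ LT 3 K, ∀ U ∈ UT 3 K, ∃ x y : Matrix.SpecialLinearGroup (Fin 3) K,
      L * U = x * y ∧ Ev i (E₁ m n) x ∧ Ev i (E₁ m n) y)
    (P₂ : ∀ L ∈ LT 2 K, ∀ U ∈ UT 2 K, ∃ x y : Matrix.SpecialLinearGroup (Fin 2) K,
      L * U = x * y ∧ Ev i (E₂ m n) x ∧ Ev i (E₂ m n) y) : All n ↥(chevF4.group K) := by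
  obtain ⟨φ₁, h₁⟩ := exists_L K
  obtain ⟨φ₂, h₂⟩ := exists_S K
  exact all_of_two hF T₁ T₂ sub com chk i h₁ h₂ (by norm_num) (Cfsg.Agent.S1054.result chevF4 (by simp))
    Cfsg.Agent.Nodes.ChevChart.irrF P₁ P₂

end Cfsg.Agent.H85.Pw.FFour
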