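import Cfsg.Agent.H85.Pw.Two

/-!
# Eigenvalues over a finite extension (S2465)

* `exists_lam` : a monic divisor of `X ^ |K'| - X` is a product of different linear factors over `K'`;
* `root_pow` : the eigenvalues of `x`, `x ^ N = 1`, satisfy `z ^ N = 1`;
* `ev_of_dvd` : the eigenvalues over `K'`, `|K'| = |K| ^ n`, of `x` in `SL_m(K)` whose characteristic polynomial divides
  `X ^ (|K| ^ n) - X`;
* `irr_ne` : roots of an irreducible polynomial of degree `d` are not fixed by `x ↦ x ^ (|K| ^ e)` if `d ∤ e`.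
-/

set_option autoImplicit false
set_option linter.unusedSectionVars false

namespace Cfsg.Agent.H85.Pw

open Polynomial

universe u

theorem exists_lam {L : Type*} [Field L] [Finite L] {g : L[X]} {m : ℕ} (hm : g.Monic) (hd : g.natDegree = m)
    (h : g ∣ X ^ Nat.card L - X) : ∃ lam : Fin m → L, Function.Injective lam ∧ g = ∏ a, (X - C (lam a)) := by
  classical
  have := Fintype.ofFinite L
  have hc : Nat.card L = Fintype.card L := Nat.card_eq_fintype_card
  rw [hc] at h
  have h0 : (X ^ Fintype.card L - X : L[X]) ≠ 0 := FiniteField.X_pow_card_sub_X_ne_zero L Fintype.one_lt_card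
  have h1 : (X ^ Fintype.card L - X : L[X]).Splits := by
    rw [splits_iff_card_roots, FiniteField.roots_X_pow_card_sub_X,
      FiniteField.X_pow_card_sub_X_natDegree_eq _ Fintype.one_lt_card]
    rfl
  have h2 : g.Splits := h1.of_dvd h0 h
  have h3 : g.roots.Nodup := by
    refine Multiset.nodup_of_le (roots.le_of_dvd h0 h) ?_
    rw [FiniteField.roots_X_pow_card_sub_X]
    exact Finset.univ.nodup
  have h4 : g.roots.toFinset.card = m := by
    rw [Multiset.toFinset_card_of_nodup h3, ← h2.natDegree_eq_card_roots, hd]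
  let e : ↥g.roots.toFinset ≃ Fin m := Finset.equivFinOfCardEq h4
  refine ⟨fun a => (e.symm a : L), fun a b hab => e.symm.injective (Subtype.ext hab), ?_⟩
  have h5 : ∏ a : Fin m, (X - C ((e.symm a : L))) = ∏ z : ↥g.roots.toFinset, (X - C (z : L)) :=
    Equiv.prod_comp e.symm fun z : ↥g.roots.toFinset => (X - C (z : L))
  rw [h5, Finset.prod_coe_sort g.roots.toFinset fun z : L => (X - C z)]
  nth_rw 1 [h2.eq_prod_roots_of_monic hm]
  rw [Finset.prod, Multiset.toFinset_val, Multiset.dedup_eq_self.2 h3]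

theorem pow_mulVec {F : Type*} [Field F] {m : ℕ} (M : Matrix (Fin m) (Fin m) F) {v : Fin m → F} {z : F}
    (h : M.mulVec v = z • v) (N : ℕ) : (M ^ N).mulVec v = z ^ N • v := by
  induction N with
  | zero => simp
  | succ N ih => rw [pow_succ, ← Matrix.mulVec_mulVec, h, Matrix.mulVec_smul, ih, smul_smul, pow_succ, mul_comm]

theorem exists_vec_of_root {F : Type*} [Field F] {m : ℕ} (M : Matrix (Fin m) (Fin m) F) {z : F}
    (h : M.charpoly.IsRoot z) : ∃ v : Fin m → F, v ≠ 0 ∧ M.mulVec v = z • v := by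
  rw [IsRoot.def, Matrix.eval_charpoly, ← Matrix.exists_mulVec_eq_zero_iff] at h
  obtain ⟨v, h1, h2⟩ := h
  rw [Matrix.sub_mulVec, sub_eq_zero, eq_comm, Matrix.scalar_apply, ← Matrix.smul_one_eq_diagonal, Matrix.smul_mulVec,
    Matrix.one_mulVec] at h2
  exact ⟨v, h1, h2⟩

/-- the eigenvalues of an element of order dividing `N` -/
theorem root_pow {K K' : Type*} [Field K] [Field K'] {i : K →+* K'} {m : ℕ} {x : Matrix.SpecialLinearGroup (Fin m) K}
    {N : ℕ} (hx : x ^ N = 1) {z : K'} (hz : (x.1.charpoly.map i).IsRoot z) : z ^ N = 1 := by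
  rw [← Matrix.charpoly_map] at hz
  obtain ⟨v, h1, h2⟩ := exists_vec_of_root _ hz
  have h3 := pow_mulVec _ h2 N
  have h4 : (x.1.map i) ^ N = 1 := by
    have h5 : (x ^ N : Matrix.SpecialLinearGroup (Fin m) K).1 = x.1 ^ N := Matrix.SpecialLinearGroup.coe_pow x N
    have h6 : (x.1 ^ N).map i = (x.1.map i) ^ N := map_pow i.mapMatrix x.1 N
    rw [← h6, ← h5, hx]
    exact map_one i.mapMatrix
  rw [h4, Matrix.one_mulVec] at h3
  by_contra hcon
  apply h1
  have h5 : (1 - z ^ N) • v = 0 := by rw [sub_smul, one_smul, ← h3, sub_self]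
  exact (smul_eq_zero.1 h5).resolve_left (sub_ne_zero.2 (Ne.symm hcon))

section

variable {K : Type u} [Field K] [Finite K] {K' : Type} [Field K'] [Finite K'] [Algebra K K'] {n : ℕ}

theorem exists_lam_map (hK' : Nat.card K' = Nat.card K ^ n) {f : K[X]} {m : ℕ} (hm : f.Monic) (hd : f.natDegree = m)
    (h : f ∣ X ^ Nat.card K ^ n - X) :
    ∃ lam : Fin m → K', Function.Injective lam ∧ f.map (algebraMap K K') = ∏ a, (X - C (lam a)) := by
  refine exists_lam (hm.map _) (by rw [natDegree_map, hd]) ?_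
  rw [hK']
  have h1 := map_dvd (algebraMap K K') h
  rwa [Polynomial.map_sub, Polynomial.map_pow, Polynomial.map_X] at h1

/-- the product of the eigenvalues -/
theorem prod_of_map {K K' : Type*} [Field K] [Field K'] {i : K →+* K'} {m : ℕ} (x : Matrix.SpecialLinearGroup (Fin m) K)
    {lam : Fin m → K'} (h : x.1.charpoly.map i = ∏ a, (X - C (lam a))) : ∏ a, lam a = 1 := by
  have h1 : (x.1.map i).det = 1 := by
    have h2 : (x.1.map i).det = i x.1.det := (RingHom.map_det _ _).symm
    rw [h2, x.2, map_one]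
  rw [Matrix.det_eq_sign_charpoly_coeff, Matrix.charpoly_map, h, coeff_zero_eq_eval_zero, eval_prod] at h1
  simp only [eval_sub, eval_X, eval_C, zero_sub] at h1
  have h2 : ∀ a : Fin m, -(lam a) = (-1) * lam a := fun a => neg_eq_neg_one_mul _
  rw [Finset.prod_congr rfl fun a _ => h2 a, Finset.prod_mul_distrib, Finset.prod_const, Finset.card_univ,
    Fintype.card_fin, ← mul_assoc, ← mul_pow, neg_one_mul, neg_neg, one_pow, one_mul] at h1
  exact h1

/-- the eigenvalues over `K'` -/
theorem ev_of_dvd (hK' : Nat.card K' = Nat.card K ^ n) {m : ℕ} {x : Matrix.SpecialLinearGroup (Fin m) K}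
    (h : x.1.charpoly ∣ X ^ Nat.card K ^ n - X) {E : (Fin m → K') → Prop}
    (hE : ∀ lam : Fin m → K', ∏ a, lam a = 1 → Function.Injective lam →
      (∀ a, (x.1.charpoly.map (algebraMap K K')).IsRoot (lam a)) → E lam) : Ev (algebraMap K K') E x := by
  obtain ⟨lam, h1, h2⟩ := exists_lam_map (K' := K') hK' x.1.charpoly_monic
    (by rw [Matrix.charpoly_natDegree_eq_dim, Fintype.card_fin]) h
  refine ⟨lam, hE lam (prod_of_map x h2) h1 fun a => ?_, h1, h2⟩
  rw [h2, IsRoot.def, eval_prod]
  exact Finset.prod_eq_zero (Finset.mem_univ a) (by simp)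

/-- an irreducible polynomial with a root `z` divides every polynomial with root `z` -/
theorem dvd_of_irr {f g : K[X]} (hf : Irreducible f) {z : K'} (h1 : (f.map (algebraMap K K')).IsRoot z)
    (h2 : (g.map (algebraMap K K')).IsRoot z) : f ∣ g := by
  have e1 : aeval z f = 0 := by rwa [IsRoot.def, eval_map_algebraMap] at h1
  have e2 : aeval z g = 0 := by rwa [IsRoot.def, eval_map_algebraMap] at h2
  have h3 : minpoly K z ∣ f := minpoly.dvd K z e1
  have h4 : minpoly K z ∣ g := minpoly.dvd K z e2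
  have h5 : ¬ IsUnit (minpoly K z) := (minpoly.irreducible (Algebra.IsIntegral.isIntegral z)).not_isUnit
  obtain ⟨c, hc⟩ := h3
  rcases hf.isUnit_or_isUnit hc with h6 | h6
  · exact absurd h6 h5
  · refine (Associated.dvd ?_).trans h4
    rw [hc]
    exact (associated_mul_unit_left _ _ h6)

/-- roots of irreducible polynomials are not in small subfields -/
theorem irr_ne {f : K[X]} (hf : Irreducible f) {e : ℕ} (he : ¬ f.natDegree ∣ e) {z : K'}
    (h1 : (f.map (algebraMap K K')).IsRoot z) : z ^ (Nat.card K ^ e) ≠ z := by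
  intro h2
  apply he
  rw [hf.natDegree_dvd_iff_dvd_X_pow_card_pow_sub_X]
  refine dvd_of_irr hf h1 ?_
  rw [IsRoot.def, Polynomial.map_sub, Polynomial.map_pow, Polynomial.map_X, eval_sub, eval_pow, eval_X, h2, sub_self]

theorem irr_dvd {f : K[X]} (hf : Irreducible f) (he : f.natDegree ∣ n) : f ∣ X ^ Nat.card K ^ n - X :=
  hf.natDegree_dvd_iff_dvd_X_pow_card_pow_sub_X.1 he

theorem dvd_lin (a : K) (n : ℕ) : X - C a ∣ (X ^ Nat.card K ^ n - X : K[X]) := by
  have := Fintype.ofFinite K
  rw [dvd_iff_isRoot, IsRoot.def, eval_sub, eval_pow, eval_X, Nat.card_eq_fintype_card, FiniteField.pow_card_pow, sub_self]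

/-- quadratic polynomials with different roots -/
theorem dvd_quad (hn : 2 ∣ n) {t : K} (h1 : t ≠ 2) (h2 : t ≠ -2) :
    (X ^ 2 - C t * X + C 1 : K[X]) ∣ X ^ Nat.card K ^ n - X := by
  have hm : (X ^ 2 - C t * X + C 1 : K[X]).Monic := by monicity!
  have hd : (X ^ 2 - C t * X + C 1 : K[X]).natDegree = 2 := by compute_degree!
  by_cases hr : ∃ a : K, a ^ 2 - t * a + 1 = 0
  · obtain ⟨a, ha⟩ := hr
    have e : (X ^ 2 - C t * X + C 1 : K[X]) = (X - C a) * (X - C (t - a)) := by
      have e1 : (1 : K) = a * (t - a) := by linear_combination ha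
      nth_rw 1 [e1]
      rw [C_mul, C_sub]
      ring
    rw [e]
    refine IsCoprime.mul_dvd ?_ (dvd_lin a n) (dvd_lin _ n)
    refine isCoprime_X_sub_C_of_isUnit_sub (sub_ne_zero.2 fun h => ?_).isUnit
    have h3 : t = 2 * a := by linear_combination -h
    have h4 : a * a = 1 := by
      rw [h3] at ha
      linear_combination -ha
    rcases mul_self_eq_one_iff.1 h4 with h5 | h5
    · exact h1 (by rw [h3, h5, mul_one])
    · exact h2 (by rw [h3, h5]; ring)
  · refine irr_dvd ?_ (by rw [hd]; exact hn)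
    rw [hm.irreducible_iff_roots_eq_zero_of_degree_le_three (by omega) (by omega)]
    refine Multiset.eq_zero_of_forall_notMem fun x hx => hr ⟨x, ?_⟩
    have h3 := (mem_roots hm.ne_zero).1 hx
    rw [IsRoot.def] at h3
    simpa using h3

end

end Cfsg.Agent.H85.Pw
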