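import Cfsg.Agent.H953.Rcf

/-!
# Endomorphisms of a space of dimension `5` (S2465)

* `exists_two` : a cyclic decomposition `V = F[S] v1 ⊕ F[S] v2` with annihilators `p ∣ d`, or three blocks with the same
  irreducible polynomial;
* `tri_five` : cyclic, two cyclic blocks, or `rank (S - c) ≤ 2`.
-/

set_option autoImplicit false
set_option linter.unusedSectionVars false

namespace Cfsg.Agent.H85.Pw.Tri

open Polynomial Cfsg.Agent.H953

universe u v

variable {F : Type u} [Field F] {V : Type v} [AddCommGroup V] [Module F V] [FiniteDimensional F V]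

/-- vectors of a cyclic subspace -/
theorem mem_cyc (T : Module.End F V) {w : V} {G : F[X]} (hG : G.Monic) (h0 : aeval T G w = 0) (f : F[X]) :
    aeval T f w ∈ Submodule.span F (Set.range fun k : Fin G.natDegree => (T ^ (k : ℕ)) w) := by
  have e1 : aeval T f w = aeval T (f %ₘ G) w := by
    conv_lhs => rw [← Polynomial.modByMonic_add_div f G]
    rw [map_add, mul_comm G, map_mul, LinearMap.add_apply]
    rw [Module.End.mul_apply, h0, map_zero, add_zero]
  rw [e1]
  have hlt : (f %ₘ G).natDegree < G.natDegree ∨ f %ₘ G = 0 := by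
    by_cases h : f %ₘ G = 0
    · exact Or.inr h
    · exact Or.inl (Polynomial.natDegree_lt_natDegree h (Polynomial.degree_modByMonic_lt _ hG))
  rcases hlt with hlt | h0
  · rw [Polynomial.aeval_eq_sum_range' hlt, LinearMap.sum_apply]
    refine Submodule.sum_mem _ fun j hj => ?_
    rw [LinearMap.smul_apply]
    exact Submodule.smul_mem _ _ (Submodule.subset_span ⟨⟨j, Finset.mem_range.mp hj⟩, rfl⟩)
  · rw [h0, map_zero, LinearMap.zero_apply]; exact zero_mem _

/-- a cyclic decomposition and its dimension -/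
theorem exists_dec (T : Module.End F V) :
    ∃ (d : ℕ) (g : Fin d → F[X]) (v : Fin d → V),
      (∀ i, ∃ (q : F[X]) (e : ℕ), q.Monic ∧ Irreducible q ∧ 0 < e ∧ g i = q ^ e) ∧
      (∀ m : V, ∃ f : Fin d → F[X], m = ∑ i, aeval T (f i) (v i)) ∧
      (∀ f : Fin d → F[X], ∑ i, aeval T (f i) (v i) = 0 ↔ ∀ i, g i ∣ f i) ∧
      ∑ i, (g i).natDegree = Module.finrank F V := by
  classical
  obtain ⟨d, g, v, hg, hspan, hind⟩ := exists_cyclic T
  refine ⟨d, g, v, hg, hspan, hind, ?_⟩
  have hmonic : ∀ i, (g i).Monic := by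
    intro i
    obtain ⟨q, e, hq, -, -, h⟩ := hg i
    rw [h]; exact hq.pow e
  have hann : ∀ i, aeval T (g i) (v i) = 0 := by
    intro i
    have := (hind (fun j => if j = i then g i else 0)).2 (fun j => by
      by_cases hj : j = i
      · subst hj; simp
      · simp [hj])
    rw [Finset.sum_eq_single i] at this
    · simpa using this
    · intro j _ hj; simp [hj]
    · intro h; exact absurd (Finset.mem_univ i) h
  let w : (Σ i : Fin d, Fin (g i).natDegree) → V := fun a => (T ^ (a.2 : ℕ)) (v a.1)
  have hw : ∀ c : (Σ i : Fin d, Fin (g i).natDegree) → F, ∑ a, c a • w a =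
      ∑ i, aeval T (∑ j : Fin (g i).natDegree, C (c ⟨i, j⟩) * X ^ (j : ℕ)) (v i) := by
    intro c
    rw [Fintype.sum_sigma]
    refine Finset.sum_congr rfl fun i _ => ?_
    rw [map_sum, LinearMap.sum_apply]
    refine Finset.sum_congr rfl fun j _ => ?_
    rw [map_mul, aeval_C, map_pow, aeval_X]
    simp [w, Algebra.algebraMap_eq_smul_one]
  have hdeg : ∀ i (c : Fin (g i).natDegree → F),
      (∑ j : Fin (g i).natDegree, C (c j) * X ^ (j : ℕ)).degree < (g i).degree := by
    intro i c
    rw [Polynomial.degree_eq_natDegree (hmonic i).ne_zero]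
    exact Polynomial.degree_sum_fin_lt c
  have hli : LinearIndependent F w := by
    rw [Fintype.linearIndependent_iff]
    intro c hc
    rw [hw, hind] at hc
    rintro ⟨i, j⟩
    have h0 := Polynomial.eq_zero_of_dvd_of_degree_lt (hc i) (hdeg i fun j => c ⟨i, j⟩)
    have h1 := congrArg (fun p => p.coeff (j : ℕ)) h0
    simp only [Polynomial.finsetSum_coeff, Polynomial.coeff_C_mul, Polynomial.coeff_X_pow, coeff_zero] at h1
    rw [Finset.sum_eq_single j] at h1
    · simpa using h1
    · intro k _ hk
      rw [if_neg, mul_zero]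
      intro h; exact hk (Fin.ext h.symm)
    · intro h; exact absurd (Finset.mem_univ j) h
  have hsp : ⊤ ≤ Submodule.span F (Set.range w) := by
    intro m _
    obtain ⟨f, hf⟩ := hspan m
    rw [hf]
    refine Submodule.sum_mem _ fun i _ => ?_
    refine Submodule.span_mono ?_ (mem_cyc T (hmonic i) (hann i) (f i))
    rintro _ ⟨k, rfl⟩
    exact ⟨⟨i, k⟩, rfl⟩
  have hb := Module.finrank_eq_card_basis (Module.Basis.mk hli hsp)
  rw [hb, Fintype.card_sigma]
  exact Finset.sum_congr rfl fun i _ => (Fintype.card_fin _).symm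

theorem coprime_of_ne {p q : F[X]} (hp : p.Monic) (hq : q.Monic) (hpi : Irreducible p) (hqi : Irreducible q)
    (h : p ≠ q) : IsCoprime p q := by
  rw [hpi.coprime_iff_not_dvd]
  intro hd
  apply h
  exact Polynomial.eq_of_monic_of_associated hp hq (hpi.associated_of_dvd hqi hd)

/-- a sum of vectors with coprime annihilators -/
theorem exists_proj (T : Module.End F V) {d : ℕ} {g : Fin d → F[X]} {v : Fin d → V}
    (hann : ∀ i, aeval T (g i) (v i) = 0) {J : Finset (Fin d)}
    (hJ : ∀ i ∈ J, ∀ j ∈ J, i ≠ j → IsCoprime (g i) (g j)) {i : Fin d} (hi : i ∈ J) :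
    ∃ h : F[X], aeval T h (∑ j ∈ J, v j) = v i := by
  classical
  have hc : IsCoprime (g i) (∏ j ∈ J.erase i, g j) := IsCoprime.prod_right fun j hj =>
    hJ i hi j (Finset.mem_of_mem_erase hj) (Finset.ne_of_mem_erase hj).symm
  obtain ⟨a, b, hab⟩ := hc
  refine ⟨b * ∏ j ∈ J.erase i, g j, ?_⟩
  rw [map_sum, Finset.sum_eq_single i]
  · have h1 : b * ∏ j ∈ J.erase i, g j = 1 - a * g i := by rw [← hab]; ring
    rw [h1, map_sub, map_mul, map_one, LinearMap.sub_apply, Module.End.mul_apply, hann, map_zero, sub_zero]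
    rfl
  · intro j hj hji
    obtain ⟨c, hc⟩ : g j ∣ b * ∏ j ∈ J.erase i, g j :=
      (Finset.dvd_prod_of_mem g (Finset.mem_erase.2 ⟨hji, hj⟩)).mul_left b
    rw [hc, mul_comm, map_mul, Module.End.mul_apply, hann, map_zero]
  · intro h; exact absurd hi h

/-- two cyclic blocks, or three elementary blocks with the same irreducible polynomial -/
theorem exists_two (T : Module.End F V) :
    (∃ (v1 v2 : V) (p d : F[X]), p.Monic ∧ d.Monic ∧ p ∣ d ∧ aeval T p v1 = 0 ∧ aeval T d = 0 ∧
      p.natDegree + d.natDegree = Module.finrank F V ∧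
      ⊤ ≤ Submodule.span F (Set.range (fun k : Fin p.natDegree => (T ^ (k : ℕ)) v1) ∪
        Set.range fun k : Fin d.natDegree => (T ^ (k : ℕ)) v2)) ∨
    ∃ (q : F[X]) (e : Fin 3 → ℕ) (u : Fin 3 → V), q.Monic ∧ Irreducible q ∧ (∀ s, 0 < e s) ∧
      (∑ s, e s) * q.natDegree ≤ Module.finrank F V ∧
      ∀ f : Fin 3 → F[X], ∑ s, aeval T (f s) (u s) = 0 ↔ ∀ s, q ^ e s ∣ f s := by
  classical
  obtain ⟨d, g, v, hg, hspan, hind, hdim⟩ := exists_dec T
  choose q e hqm hqi he hge using hg
  have hmonic : ∀ i, (g i).Monic := fun i => by rw [hge]; exact (hqm i).pow _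
  have hann : ∀ i, aeval T (g i) (v i) = 0 := by
    intro i
    have := (hind (fun j => if j = i then g i else 0)).2 (fun j => by
      by_cases hj : j = i
      · subst hj; simp
      · simp [hj])
    rw [Finset.sum_eq_single i] at this
    · simpa using this
    · intro j _ hj; simp [hj]
    · intro h; exact absurd (Finset.mem_univ i) h
  have hcop : ∀ i j, q i ≠ q j → IsCoprime (g i) (g j) := fun i j h => by
    rw [hge, hge]; exact (coprime_of_ne (hqm i) (hqm j) (hqi i) (hqi j) h).pow
  obtain ⟨J, hJ⟩ : ∃ J : Finset (Fin d), J = Finset.univ.filter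
      (fun i => ∀ j, q j = q i → e j < e i ∨ (e j = e i ∧ i ≤ j)) := ⟨_, rfl⟩
  have memJ : ∀ i, i ∈ J ↔ ∀ j, q j = q i → e j < e i ∨ (e j = e i ∧ i ≤ j) := fun i => by
    rw [hJ, Finset.mem_filter]; simp
  have J1 : ∀ i ∈ J, ∀ j ∈ J, q i = q j → i = j := by
    intro i hi j hj hij
    rcases (memJ i).1 hi j hij.symm with h1 | ⟨h1, h2⟩
    · rcases (memJ j).1 hj i hij with h3 | ⟨h3, h4⟩
      · omega
      · omega
    · rcases (memJ j).1 hj i hij with h3 | ⟨h3, h4⟩
      · omega
      · exact le_antisymm h2 h4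
  have J2 : ∀ j, ∃ i ∈ J, q i = q j ∧ e j ≤ e i := by
    intro j
    obtain ⟨i, hi, hmax⟩ := Finset.exists_max_image (Finset.univ.filter fun i => q i = q j)
      (fun i => toLex (e i, OrderDual.toDual i)) ⟨j, by simp⟩
    rw [Finset.mem_filter] at hi
    have hmax' : ∀ x, q x = q j → e x < e i ∨ (e x = e i ∧ i ≤ x) := by
      intro x hx
      have h1 := hmax x (by simpa using hx)
      rw [Prod.Lex.le_iff] at h1
      rcases h1 with h1 | ⟨h1, h2⟩
      · exact Or.inl h1
      · exact Or.inr ⟨h1, h2⟩
    refine ⟨i, (memJ i).2 fun x hx => hmax' x (hx.trans hi.2), hi.2, ?_⟩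
    rcases hmax' j rfl with h | h
    · exact h.le
    · exact h.1.le
  by_cases hcol : ∃ i ∉ J, ∃ j ∉ J, i ≠ j ∧ q i = q j
  · right
    obtain ⟨i, hi, j, hj, hij, hqij⟩ := hcol
    obtain ⟨k, hk, hqk, -⟩ := J2 i
    have hki : k ≠ i := by rintro rfl; exact hi hk
    have hkj : k ≠ j := by rintro rfl; exact hj hk
    obtain ⟨I, hI⟩ : ∃ I : Fin 3 → Fin d, I = ![k, i, j] := ⟨_, rfl⟩
    have hinj : Function.Injective I := by
      rw [hI]
      intro a b
      fin_cases a <;> fin_cases b <;> intro hab
      · rfl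
      · exact absurd hab hki
      · exact absurd hab hkj
      · exact absurd hab.symm hki
      · rfl
      · exact absurd hab hij
      · exact absurd hab.symm hkj
      · exact absurd hab.symm hij
      · rfl
    have hqI : ∀ s, q (I s) = q i := by
      rw [hI]
      intro s
      fin_cases s
      · exact hqk
      · rfl
      · exact hqij.symm
    refine ⟨q i, fun s => e (I s), fun s => v (I s), hqm i, hqi i, fun s => he _, ?_, fun f => ?_⟩
    · rw [← hdim, Finset.sum_mul]
      have h1 : ∀ s, e (I s) * (q i).natDegree = (g (I s)).natDegree := fun s => by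
        rw [hge, (hqm _).natDegree_pow, hqI]
      rw [Finset.sum_congr rfl fun s _ => h1 s]
      have h2 : ∑ s, (g (I s)).natDegree = ∑ x ∈ Finset.univ.image I, (g x).natDegree := by
        rw [Finset.sum_image fun a _ b _ h => hinj h]
      rw [h2]
      exact Finset.sum_le_sum_of_subset (Finset.subset_univ _)
    · have h1 := hind (fun x => ∑ s, if I s = x then f s else 0)
      have h2 : ∑ x, aeval T (∑ s, if I s = x then f s else 0) (v x) = ∑ s, aeval T (f s) (v (I s)) := by
        have h3 : ∀ x, aeval T (∑ s, if I s = x then f s else 0) (v x) =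
            ∑ s, if I s = x then aeval T (f s) (v (I s)) else 0 := by
          intro x
          rw [map_sum, LinearMap.sum_apply]
          refine Finset.sum_congr rfl fun s _ => ?_
          by_cases h : I s = x
          · rw [if_pos h, if_pos h, h]
          · rw [if_neg h, if_neg h, map_zero, LinearMap.zero_apply]
        rw [Finset.sum_congr rfl fun x _ => h3 x, Finset.sum_comm]
        refine Finset.sum_congr rfl fun s _ => ?_
        rw [Finset.sum_ite_eq]
        simp
      rw [h2] at h1
      rw [h1]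
      constructor
      · intro h s
        have h3 := h (I s)
        rw [Finset.sum_eq_single s (fun b _ hb => if_neg fun h4 => hb (hinj h4))
          (fun h4 => absurd (Finset.mem_univ _) h4), if_pos rfl, hge, hqI] at h3
        exact h3
      · intro h x
        refine Finset.dvd_sum fun s _ => ?_
        by_cases h3 : I s = x
        · rw [if_pos h3, ← h3, hge, hqI]
          exact h s
        · rw [if_neg h3]; exact dvd_zero _
  · left
    push Not at hcol
    have hc1 : ∀ i ∈ J, ∀ j ∈ J, i ≠ j → IsCoprime (g i) (g j) := fun i hi j hj hij =>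
      hcop i j fun h => hij (J1 i hi j hj h)
    have hc2 : ∀ i ∈ Jᶜ, ∀ j ∈ Jᶜ, i ≠ j → IsCoprime (g i) (g j) := fun i hi j hj hij =>
      hcop i j (hcol i (Finset.mem_compl.1 hi) j (Finset.mem_compl.1 hj) hij)
    have hpm : (∏ i ∈ Jᶜ, g i).Monic := monic_prod_of_monic _ _ fun i _ => hmonic i
    have hdm : (∏ i ∈ J, g i).Monic := monic_prod_of_monic _ _ fun i _ => hmonic i
    have hgd : ∀ i, g i ∣ ∏ i ∈ J, g i := by
      intro i
      obtain ⟨j, hj, hq, hle⟩ := J2 i
      refine dvd_trans ?_ (Finset.dvd_prod_of_mem g hj)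
      rw [hge, hge, hq]
      exact pow_dvd_pow _ hle
    have hz : ∀ (J' : Finset (Fin d)) (G : F[X]), (∀ i ∈ J', g i ∣ G) → aeval T G (∑ i ∈ J', v i) = 0 := by
      intro J' G hG
      rw [map_sum]
      refine Finset.sum_eq_zero fun i hi => ?_
      obtain ⟨c, hc⟩ := hG i hi
      rw [hc, mul_comm, map_mul, Module.End.mul_apply, hann, map_zero]
    have hz1 := hz Jᶜ (∏ i ∈ Jᶜ, g i) fun i hi => Finset.dvd_prod_of_mem g hi
    have hz2 := hz J (∏ i ∈ J, g i) fun i hi => Finset.dvd_prod_of_mem g hi
    refine ⟨∑ i ∈ Jᶜ, v i, ∑ i ∈ J, v i, ∏ i ∈ Jᶜ, g i, ∏ i ∈ J, g i, hpm, hdm, ?_, hz1, ?_, ?_, ?_⟩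
    · exact Finset.prod_dvd_of_coprime (fun i hi j hj hij => hc2 i hi j hj hij) fun i _ => hgd i
    · ext m
      obtain ⟨f, hf⟩ := hspan m
      rw [hf, LinearMap.zero_apply, map_sum]
      refine Finset.sum_eq_zero fun i _ => ?_
      obtain ⟨c, hc⟩ := hgd i
      rw [← Module.End.mul_apply, ← map_mul, hc, show g i * c * f i = (c * f i) * g i by ring, map_mul,
        Module.End.mul_apply, hann, map_zero]
    · rw [natDegree_prod_of_monic _ _ fun i _ => hmonic i, natDegree_prod_of_monic _ _ fun i _ => hmonic i, add_comm,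
        Finset.sum_add_sum_compl, hdim]
    · intro m _
      obtain ⟨f, hf⟩ := hspan m
      rw [hf]
      refine Submodule.sum_mem _ fun i _ => ?_
      by_cases hi : i ∈ J
      · obtain ⟨h, hh⟩ := exists_proj T hann hc1 hi
        rw [← hh, ← Module.End.mul_apply, ← map_mul]
        exact Submodule.span_mono Set.subset_union_right (mem_cyc T hdm hz2 _)
      · obtain ⟨h, hh⟩ := exists_proj T hann hc2 (Finset.mem_compl.2 hi)
        rw [← hh, ← Module.End.mul_apply, ← map_mul]
        exact Submodule.span_mono Set.subset_union_left (mem_cyc T hpm hz1 _)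

/-- **dimension `5`** -/
theorem tri_five (hV : Module.finrank F V = 5) (S : Module.End F V) :
    (∃ (v0 : V) (d : F[X]), d.Monic ∧ d.natDegree = 5 ∧ aeval S d = 0 ∧
      ⊤ ≤ Submodule.span F (Set.range fun i : Fin 5 => (S ^ (i : ℕ)) v0)) ∨
    (∃ (v1 v2 : V) (p d : F[X]), p.Monic ∧ d.Monic ∧ p ∣ d ∧ aeval S p v1 = 0 ∧ aeval S d = 0 ∧
      ((p.natDegree = 1 ∧ d.natDegree = 4) ∨ (p.natDegree = 2 ∧ d.natDegree = 3)) ∧
      ⊤ ≤ Submodule.span F (Set.range (fun k : Fin p.natDegree => (S ^ (k : ℕ)) v1) ∪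
        Set.range fun k : Fin d.natDegree => (S ^ (k : ℕ)) v2)) ∨
    ∃ c : F, Module.finrank F (LinearMap.range (S - algebraMap F (Module.End F V) c)) ≤ 2 := by
  rcases exists_two S with ⟨v1, v2, p, d, hp, hd, hpd, h1, h2, h3, h4⟩ | ⟨q, e, u, hq, hqi, he, hdeg, hind⟩
  · rw [hV] at h3
    have h5 : p.natDegree ≤ d.natDegree := natDegree_le_of_dvd hpd hd.ne_zero
    have h6 : p.natDegree = 0 ∨ p.natDegree = 1 ∨ p.natDegree = 2 := by omega
    rcases h6 with h6 | h6
    · left
      have h7 : d.natDegree = 5 := by omega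
      refine ⟨v2, d, hd, h7, h2, ?_⟩
      rw [h7] at h4
      refine h4.trans (Submodule.span_mono ?_)
      rintro x (⟨k, -⟩ | hx)
      · exact absurd k.2 (by omega)
      · exact hx
    · right; left
      exact ⟨v1, v2, p, d, hp, hd, hpd, h1, h2, by omega, h4⟩
  · right; right
    have h1 : q.natDegree = 1 := by
      have h2 : 3 ≤ ∑ s, e s := by
        rw [Fin.sum_univ_three]
        have := he 0
        have := he 1
        have := he 2
        omega
      have h3 := hqi.natDegree_pos
      rw [hV] at hdeg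
      by_contra hne
      have h4 : 2 ≤ q.natDegree := by omega
      have h5 : 3 * 2 ≤ (∑ s, e s) * q.natDegree := Nat.mul_le_mul h2 h4
      omega
    obtain ⟨c, hc⟩ : ∃ c, q = X - C c := by
      refine ⟨-q.coeff 0, ?_⟩
      rw [C_neg, sub_neg_eq_add]
      exact hq.eq_X_add_C h1
    refine ⟨c, ?_⟩
    have hA : S - algebraMap F (Module.End F V) c = aeval S q := by
      rw [hc, map_sub, aeval_X, aeval_C]
    rw [hA]
    -- three independent vectors of the kernel
    let w : Fin 3 → LinearMap.ker (aeval S q) := fun s => ⟨aeval S (q ^ (e s - 1)) (u s), by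
      rw [LinearMap.mem_ker, ← Module.End.mul_apply, ← map_mul, ← pow_succ', Nat.sub_add_cancel (he s)]
      have := (hind fun t => if t = s then q ^ e s else 0).2 (fun t => by
        by_cases ht : t = s
        · subst ht; simp
        · simp [ht])
      rw [Finset.sum_eq_single s] at this
      · simpa using this
      · intro j _ hj; simp [hj]
      · intro h; exact absurd (Finset.mem_univ s) h⟩
    have hli : LinearIndependent F w := by
      rw [Fintype.linearIndependent_iff]
      intro t ht s
      have h2 : ∑ s, aeval S (C (t s) * q ^ (e s - 1)) (u s) = 0 := by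
        have h3 := congrArg (fun x : LinearMap.ker (aeval S q) => (x : V)) ht
        simp only [Submodule.coe_sum, Submodule.coe_smul, ZeroMemClass.coe_zero, w] at h3
        rw [← h3]
        refine Finset.sum_congr rfl fun s _ => ?_
        rw [map_mul, aeval_C, Module.End.mul_apply]
        simp [Algebra.algebraMap_eq_smul_one]
      have h3 := (hind _).1 h2 s
      by_contra hne
      have h4 : C (t s) * q ^ (e s - 1) ≠ 0 := mul_ne_zero (C_ne_zero.2 hne) (pow_ne_zero _ hq.ne_zero)
      have h5 := natDegree_le_of_dvd h3 h4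
      rw [natDegree_C_mul hne, hq.natDegree_pow, hq.natDegree_pow, h1] at h5
      have := he s
      omega
    have h2 := hli.fintype_card_le_finrank
    rw [Fintype.card_fin] at h2
    have h3 := LinearMap.finrank_range_add_finrank_ker (aeval S q)
    rw [hV] at h3
    omega

end Cfsg.Agent.H85.Pw.Tri
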